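/-
Groups with central Sylow 2-intersections: basic facts.
-/
import Cfsg.Agent.SH.Z
import Cfsg.Agent.H1.Quaternion
import Cfsg.Agent.H11.Count

set_option autoImplicit false
set_option linter.style.haveILetI false

namespace Cfsg.Agent.CI

open Subgroup MulAction Cfsg.Agent.H20 Cfsg.Agent.H21 Cfsg.Agent.BS.Bd

variable {G : Type*} [Group G] {S T : Sylow 2 G} {B B' R : Subgroup G} {g x : G}

/-- `x` lies in two Sylow 2-subgroups. -/
def Tw (x : G) : Prop := ∃ S T : Sylow 2 G, S ≠ T ∧ x ∈ (S : Subgroup G) ∧ x ∈ (T : Subgroup G)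

/-- A central subgroup of `S` with non-cyclic quotient which contains the Sylow intersections. -/
structure Zs (S : Sylow 2 G) (B : Subgroup G) : Prop where
  le : B ≤ S
  cen : ∀ b ∈ B, ∀ s ∈ (S : Subgroup G), s * b = b * s
  tw : ∀ x ∈ (S : Subgroup G), Tw x → x ∈ B
  nc : ∀ x ∈ (S : Subgroup G), ¬ (S : Subgroup G) ≤ zpowers x ⊔ B

/-- `S / B` has no four-subgroup. -/
def U1 (S B : Subgroup G) : Prop :=
  ∀ x ∈ S, ∀ y ∈ S, x * x ∈ B → y * y ∈ B → x * y * (x * y) ∈ B → x ∉ B → y ∉ B → x * y ∈ B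

theorem mem_smul (h : x ∈ (S : Subgroup G)) (g : G) : g * x * g⁻¹ ∈ ((g • S : Sylow 2 G) : Subgroup G) :=
  H11.mem_sylow_smul.2 (by rwa [show g⁻¹ * (g * x * g⁻¹) * g = x by group])

theorem Tw.conj (h : Tw x) (g : G) : Tw (g * x * g⁻¹) :=
  let ⟨S, T, h1, h2, h3⟩ := h
  ⟨g • S, g • T, fun e => h1 (smul_left_cancel g e), mem_smul h2 g, mem_smul h3 g⟩

theorem Tw.of_conj (h : Tw (g * x * g⁻¹)) : Tw x := by simpa [mul_assoc] using h.conj g⁻¹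

theorem fix_of (h : ¬ Tw x) (hx : x ∈ (S : Subgroup G)) (hg : g * x * g⁻¹ ∈ (S : Subgroup G)) : g • S = S :=
  by_contra fun e => h (Tw.of_conj ⟨_, _, e, mem_smul hx g, hg⟩)

theorem fix_iff : g • S = S ↔ g ∈ N⟦(S : Subgroup G)⟧ := Sylow.smul_eq_iff_mem_normalizer

theorem conj_mem (h : g • S = S) (hx : x ∈ (S : Subgroup G)) : g * x * g⁻¹ ∈ (S : Subgroup G) := h ▸ mem_smul hx g

theorem mem_of_fix (h : g • S = S) (h2 : El2 g) : g ∈ (S : Subgroup G) :=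
  (H11.isSylIn_top S).le_of_normalizes h2.isPGroup le_top (zpowers_le.2 (fix_iff.1 h)) (mem_zpowers g)

theorem el2 (hx : x ∈ (S : Subgroup G)) : El2 x := el2_of_mem S.2 hx

variable [Finite G]

/-- An involution of `S` fixed by `N(S)` is isolated. -/
theorem Zs.iso (z : Zs S B) (hz : ∀ T : Sylow 2 G, ∃ B, Zs T B) {c : G} (hc : c ∈ (S : Subgroup G)) (h2 : Iv c)
    (hN : ∀ n : G, n • S = S → n * c = c * n) (g : G) : c * g * c⁻¹ * g⁻¹ ∈ oddCore G := by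
  refine H6.zstar_sylow S h2.ord hc (fun g hg => ?_) g
  by_cases h : Tw c
  · obtain ⟨n, -, h1, h3⟩ := (H11.isSylIn_top S).exists_normalizer_conj (mem_top g) (z.cen c (z.tw c hc h))
      (z.cen _ (z.tw _ hg (h.conj g)))
    rw [← h3, hN n (fix_iff.2 h1), mul_inv_cancel_right]
  · rw [hN g (fix_of h hc hg), mul_inv_cancel_right]

theorem exists_cent_inv' {t r : G} (ho : Odd ♯R) (hn : t ∈ N⟦R⟧) (h2 : t * t ∈ C⟦R⟧) (hr : r ∈ R) :
    ∃ c ∈ R, c * t = t * c ∧ ∃ y ∈ R, t * y * t⁻¹ = y⁻¹ ∧ r = c * y⁻¹ := by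
  have hu : r⁻¹ * (t * r * t⁻¹) ∈ R := mul_mem (inv_mem hr) (conj_mem_of_norm hn hr)
  set u := r⁻¹ * (t * r * t⁻¹) with e
  obtain ⟨m, hm⟩ := odd_ord ho hu
  have h1 : t * u * t⁻¹ = u⁻¹ := by
    calc _ = t * r⁻¹ * t⁻¹ * ((t * t) * r * (t * t)⁻¹) := by rw [e]; group
      _ = _ := by rw [← mem_cent.1 h2 r hr, e]; group
  have h3 : t * u ^ (m + 1) * t⁻¹ = (u ^ (m + 1))⁻¹ := by rw [← conj_pow, h1, inv_pow]
  have h4 : u ^ (m + 1) * u ^ (m + 1) = u := by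
    rw [← pow_add, show m + 1 + (m + 1) = 2 * m + 1 + 1 by ring, ← hm, pow_succ, pow_orderOf_eq_one, one_mul]
  refine ⟨r * u ^ (m + 1), mul_mem hr (pow_mem hu _), (SH.comm_of_conj ?_).symm, _, pow_mem hu _, h3, by simp⟩
  rw [← conj_mul, h3, mul_inv_eq_iff_eq_mul, mul_assoc r, h4, e, mul_inv_cancel_left]

/-- Odd order subgroups normalized by `S`. -/
theorem Zs.odd (z : Zs S B) (ho : Odd ♯R) (hn : (S : Subgroup G) ≤ N⟦R⟧) :
    R ≤ C⟦(S : Subgroup G)⟧ ∨ ∃ B' ≤ B, U1 S B' := by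
  induction hc : ♯R using Nat.strong_induction_on generalizing R with
  | _ n ih =>
  refine or_iff_not_imp_right.2 fun hU => by_contra fun hR => hU ?_
  have ih' : ∀ Y < R, (S : Subgroup G) ≤ N⟦Y⟧ → Y ≤ C⟦(S : Subgroup G)⟧ := fun Y h1 h2 =>
    (ih _ (hc ▸ H21.card_lt h1) (ho.of_dvd_nat (card_dvd h1.le)) h2 rfl).resolve_right hU
  have k1 : ∀ x ∈ (S : Subgroup G), x ∉ B → R ⊓ C₁⟦x⟧ ≤ C⟦(S : Subgroup G)⟧ := fun x hx h1 r hr => by
    replace hr := mem_inf.1 hr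
    have h2 := fix_of (mt (z.tw x hx) h1) hx (g := r) (by rwa [mem_cent1.1 hr.2, mul_inv_cancel_right])
    refine mem_cent.2 fun s hs => ?_
    have h3 : r * s * r⁻¹ * s⁻¹ ∈ (S : Subgroup G) ⊓ R := mem_inf.2 ⟨mul_mem (conj_mem h2 hs) (inv_mem hs), by
      simpa [mul_assoc] using R.mul_mem hr.1 (conj_mem_of_norm (hn hs) (R.inv_mem hr.1))⟩
    exact (mul_inv_eq_iff_eq_mul.1 (mul_inv_eq_one.1 ((el2 h3.1).eq_one (odd_ord ho h3.2)))).symm
  have k2 : ∀ x ∈ (S : Subgroup G), x ∉ C⟦R⟧ → R ⊓ C₁⟦x⟧ ≤ C⟦(S : Subgroup G)⟧ := fun x hx h1 => by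
    by_cases h2 : x ∈ B
    · exact ih' _ (inf_lt_left.2 fun e => h1 (le_cent1_iff.1 e))
        (norm_inf hn (norm_cent1 fun s hs => mem_cent1.2 (z.cen x h2 s hs)))
    · exact k1 x hx h2
  have hd := ih' _ (der_lt_of_sol (sol_of_odd ho) fun e => hR (e ▸ bot_le)) (norm_der hn)
  have nm : ∀ r ∈ R, ∀ c ∈ R, c ∈ C⟦(S : Subgroup G)⟧ → r * c * r⁻¹ ∈ C⟦(S : Subgroup G)⟧ := fun r hr c h1 h2 => by
    simpa [commutatorElement_def] using mul_mem (hd (commutator_mem_commutator hr h1)) h2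
  have k3 : ∀ x ∈ (S : Subgroup G), x * x ∈ C⟦R⟧ → x ∉ C⟦R⟧ → ∀ r ∈ R,
      r * (x * r * x⁻¹) ∈ C⟦(S : Subgroup G)⟧ := fun x hx h1 h2 r hr => by
    obtain ⟨c, h3, h4, y, h5, h6, rfl⟩ := exists_cent_inv' ho (hn hx) h1 hr
    have h7 := k2 x hx h2 ⟨h3, mem_cent1.2 h4⟩
    rw [← conj_mul, H15.RO.conj_inv', h6, ← h4, mul_inv_cancel_right, inv_inv]
    simpa [mul_assoc] using mul_mem h7 (nm _ (inv_mem h5) c h3 h7)
  refine ⟨S ⊓ C⟦R⟧, fun x hx => by_contra fun h1 => hR ((le_inf le_rfl (le_cent1_iff.2 hx.2)).trans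
    (k1 x hx.1 h1)), fun x hx y hy h1 h2 h3 h4 h5 => ⟨mul_mem hx hy, by_contra fun h6 => hR fun r hr => ?_⟩⟩
  have a := k3 y hy h2.2 (fun e => h5 ⟨hy, e⟩) r hr
  have b := k3 x hx h1.2 (fun e => h4 ⟨hx, e⟩) r hr
  have c := k3 _ (mul_mem hx hy) h3.2 h6 r hr
  have e : r * (y * r * y⁻¹) = r⁻¹ * (r * (x * r * x⁻¹)) * r * (r * r)⁻¹ * (r * (x * y * r * (x * y)⁻¹)) := by
    rw [← mul_inv_cancel_right (r * (y * r * y⁻¹)) x, ← mem_cent.1 a x hx]; group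
  rw [e, mul_mem_cancel_right c, mul_mem_cancel_left (by
    simpa using nm _ (inv_mem hr) _ (mul_mem hr (conj_mem_of_norm (hn hx) hr)) b), inv_mem_iff] at a
  exact mem_of_sq_mem (odd_ord ho hr) a

omit [Finite G] in
theorem Zs.mem_sup (z : Zs S B) (hB : B' ≤ B) {a : G} (ha : a ∈ (S : Subgroup G)) :
    x ∈ zpowers a ⊔ B' ↔ ∃ i : ℤ, ∃ b ∈ B', a ^ i * b = x := by
  rw [mem_sup_of_norm (norm_of_cent (le_cent_iff.2 fun s hs b hb => z.cen b (hB hb) s (zpowers_le.2 ha hs)))]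
  exact ⟨fun ⟨_, ⟨i, e⟩, b, hb, h⟩ => ⟨i, b, hb, (congrArg (· * b) e).trans h⟩, fun ⟨i, b, hb, h⟩ => ⟨_, ⟨i, rfl⟩, b, hb, h⟩⟩

/-- The quotient `S / B'` is generalized quaternion. -/
theorem Zs.quat (z : Zs S B) (hB : B' ≤ B) (h : U1 S B') : ∃ a ∈ (S : Subgroup G), ∃ b ∈ (S : Subgroup G),
    a * b ≠ b * a ∧ ∀ c ∈ (S : Subgroup G), c ∈ zpowers a ⊔ B' ∨ b⁻¹ * c ∈ zpowers a ⊔ B' := by
  haveI : (B'.subgroupOf S).Normal := ⟨fun y hy g => by
    change (g : G) * y * (g : G)⁻¹ ∈ B'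
    rwa [z.cen y (hB hy) g g.2, mul_inv_cancel_right]⟩
  set π := QuotientGroup.mk' (B'.subgroupOf S)
  have hs : Function.Surjective π := QuotientGroup.mk'_surjective _
  have ker : ∀ x, π x = 1 ↔ (x : G) ∈ B' := fun x => QuotientGroup.eq_one_iff x
  have hP : IsPGroup 2 (S ⧸ B'.subgroupOf S) := S.2.of_surjective π hs
  have pull : ∀ a c : S, π c ∈ zpowers (π a) → (c : G) ∈ zpowers (a : G) ⊔ B' := fun a c ⟨i, e⟩ =>
    (z.mem_sup hB a.2).2 ⟨i, ((a ^ i)⁻¹ * c : S), (ker _).1 (by rw [map_mul, map_inv, map_zpow, ← e]; simp), by simp⟩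
  have key : ∀ x y : S ⧸ B'.subgroupOf S, Iv x → Iv y → x * y = y * x → x = y := fun x y hx hy e => by
    obtain ⟨x, rfl⟩ := hs x
    obtain ⟨y, rfl⟩ := hs y
    have := (ker (x * y)).2 (h x x.2 y y.2 ((ker (x * x)).1 (by rw [map_mul, hx.2])) ((ker (y * y)).1
      (by rw [map_mul, hy.2])) ((ker (x * y * (x * y))).1 (by
        rw [map_mul, map_mul, mul_assoc, ← mul_assoc (π y), ← e, mul_assoc, hy.2, mul_one, hx.2]))
      (mt (ker x).2 hx.1) (mt (ker y).2 hy.1))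
    rw [map_mul] at this
    rw [eq_inv_of_mul_eq_one_left this, hy.inv]
  rcases H1.isCyclic_or_quaternion_gens hP (fun x y hx hy => by
    obtain ⟨c, -, h1, h2⟩ := H11.exists_orderOf_eq_centralizer_of_normalized (P := ⊤) (N := ⊤) (hP.to_subgroup _)
      (hP.to_subgroup _) (ne_bot_of_mem (mem_top x) (iv_of_ord hx).1) le_normalizer
    by_cases y1 : y = 1
    · simp [y1]
    rw [key y c ⟨y1, by rwa [← pow_two]⟩ (iv_of_ord h1) (h2 y trivial),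
      ← key x c (iv_of_ord hx) (iv_of_ord h1) (h2 x trivial)]
    exact mem_zpowers x) with hc | ⟨-, n, a, b, hn, h1, -, h3, -, h4⟩
  · obtain ⟨a, ha⟩ := hc.exists_generator
    obtain ⟨a, rfl⟩ := hs a
    exact absurd (fun c hc => sup_le_sup_left hB _ (pull a ⟨c, hc⟩ (ha _))) (z.nc a a.2)
  obtain ⟨a, rfl⟩ := hs a
  obtain ⟨b, rfl⟩ := hs b
  refine ⟨a, a.2, b, b.2, fun e => ?_, fun c hc => (em _).imp (pull a ⟨c, hc⟩) fun e =>
    pull a (b⁻¹ * ⟨c, hc⟩) (by simpa using h4 _ e)⟩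
  rw [← map_mul, show b * a = a * b from Subtype.ext e.symm, map_mul, mul_inv_cancel_right] at h3
  have h5 := orderOf_dvd_of_pow_eq_one (x := π a) (n := 2) (by rw [pow_two]; exact mul_eq_one_iff_eq_inv.2 h3)
  have h6 := Nat.le_of_dvd two_pos h5
  have := Nat.pow_le_pow_right (n := 2) two_pos hn
  omega

/-- In the quaternion case `N(S)` fixes an involution of `S`. -/
theorem Zs.inv (z : Zs S B) (hB : B' ≤ B) (h : U1 S B') :
    ∃ c ∈ (S : Subgroup G), Iv c ∧ ∀ n : G, n • S = S → n * c = c * n := by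
  obtain ⟨a, ha, b, hb, h1, h2⟩ := z.quat hB h
  set M := zpowers a ⊔ B'
  have hM : M ≤ S := sup_le (zpowers_le.2 ha) (hB.trans z.le)
  have ca : ∀ m ∈ M, a * m = m * a := fun m hm => by
    obtain ⟨i, β, h3, rfl⟩ := (z.mem_sup hB ha).1 hm
    rw [← mul_assoc, (Commute.self_zpow a i).eq, mul_assoc, z.cen β (hB h3) a ha, mul_assoc]
  have cM : ∀ m ∈ M, ∀ m' ∈ M, m * m' = m' * m := fun m hm m' hm' => by
    obtain ⟨i, β, h3, rfl⟩ := (z.mem_sup hB ha).1 hm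
    rw [mul_assoc, ← z.cen β (hB h3) m' (hM hm'), ← mul_assoc, (Commute.zpow_left (ca m' hm') i).eq, mul_assoc]
  have aM : a ∈ M := mem_sup_left (mem_zpowers a)
  have h3 : b * a * b⁻¹ ∈ M := (h2 _ (mul_mem (mul_mem hb ha) (inv_mem hb))).resolve_right fun e => h1 (ca b (by
    rwa [← mul_assoc, inv_mul_cancel_left, mul_mem_cancel_left aM, inv_mem_iff] at e))
  set u := b * a * b⁻¹ * a⁻¹ with hu
  have k1 : ∀ m ∈ M, b * m * b⁻¹ * m⁻¹ ∈ zpowers u := fun m hm => by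
    obtain ⟨i, β, h4, rfl⟩ := (z.mem_sup hB ha).1 hm
    refine ⟨i, ?_⟩
    change u ^ i = _
    rw [hu, (Commute.inv_right (ca _ h3).symm).mul_zpow, conj_zpow, ← mul_assoc b, mul_assoc _ β,
      ← z.cen β (hB h4) _ (inv_mem hb)]
    group
  have uM : zpowers u ≤ M := zpowers_le.2 (mul_mem h3 (inv_mem aM))
  have k2 : ∀ s ∈ (S : Subgroup G), ∀ m ∈ M, s * m * s⁻¹ * m⁻¹ ∈ zpowers u := fun s hs m hm => by
    rcases h2 s hs with e | e
    · rw [cM s e m hm]; simp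
    · convert k1 m hm using 2
      calc s * m * s⁻¹ = b * (b⁻¹ * s * m) * s⁻¹ := by group
        _ = _ := by rw [cM _ e m hm]; group
  have k3 : ∀ s ∈ (S : Subgroup G), ∀ t ∈ (S : Subgroup G), s * t * s⁻¹ * t⁻¹ ∈ zpowers u := fun s hs t ht => by
    rcases h2 t ht with e | e
    · exact k2 s hs t e
    rcases h2 s hs with f | f
    · simpa [mul_assoc] using inv_mem (k2 t ht s f)
    have h4 := mul_mem (inv_mem f) e
    have h5 := mul_mem (uM (k2 s hs _ h4)) h4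
    convert k2 s hs _ h5 using 1
    group
  have uS := hM (uM (mem_zpowers u))
  obtain ⟨c, h4, h5⟩ := (el2 uS).exists_iv fun e => h1 (mul_inv_eq_iff_eq_mul.1 (mul_inv_eq_one.1 e)).symm
  refine ⟨c, zpowers_le.2 uS h4, h5, fun n hn => SH.comm_of_conj
    (H11.invol_unique_zpowers (h5.conj n).ord h5.ord ?_ h4)⟩
  have h6 : cj n (zpowers u) ≤ zpowers u := by
    rw [cj_zpowers, zpowers_le]
    convert k3 _ (conj_mem hn hb) _ (conj_mem hn ha) using 1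
    rw [hu]; group
  exact h6 (conj_mem_cj.2 h4)

end Cfsg.Agent.CI
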