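/-
Groups with central Sylow 2-intersections: the action on the Sylow subgroups.
-/
import Cfsg.Agent.CI.A

set_option autoImplicit false
set_option linter.style.haveILetI false

namespace Cfsg.Agent.CI

open Subgroup MulAction Cfsg.Agent.H20 Cfsg.Agent.H21 Cfsg.Agent.BS.Bd Cfsg.Agent.BS

universe u

/-- Two Sylow 2-subgroups inside `X` meet in the intersection of all of them. -/
def TIx {G : Type*} [Group G] (X : Subgroup G) : Prop :=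
  ∀ S T U : Sylow 2 G, (S : Subgroup G) ≤ X → (T : Subgroup G) ≤ X → (U : Subgroup G) ≤ X → S ≠ T →
    ∀ x ∈ (S : Subgroup G), x ∈ (T : Subgroup G) → x ∈ (U : Subgroup G)

/-- The subgroup generated by the Sylow 2-subgroups inside `X`. -/
def Mx {G : Type*} [Group G] (X : Subgroup G) : Subgroup G :=
  ⨆ T : {T : Sylow 2 G // (T : Subgroup G) ≤ X}, (T.1 : Subgroup G)

/-- The image of `M` in its action on the Sylow subgroups is a simple Bender group. -/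
structure Pk {G : Type*} [Group G] (M : Subgroup G) (S : Sylow 2 G) (B : Subgroup G)
    {H Δ : Type*} [Group H] [MulAction H Δ] (φ : M →* H) (ι : Δ → Sylow 2 G) (α : Δ) (t : H) (Q : Subgroup H)
    (r : H) {F : Type} [Field F] (τ : F → H) (κ : Fˣ →* H) : Prop where
  bar : Bar M S φ ι
  base : ι α = S
  r1 : R1 α t Q r τ κ
  top : L0 t = ⊤
  mem : ∀ x : M, (x : G) ∈ (S : Subgroup G) → φ x ∈ Q
  lift : ∀ v ∈ Q, ∃ x : M, (x : G) ∈ (S : Subgroup G) ∧ φ x = v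
  ker : ∀ x : M, (x : G) ∈ (S : Subgroup G) → (φ x = 1 ↔ (x : G) ∈ B)

section
variable {G : Type*} [Group G] {S T : Sylow 2 G} {B B' D D' X Z : Subgroup G}

theorem le_Mx (h : (T : Subgroup G) ≤ X) : (T : Subgroup G) ≤ Mx X := le_iSup_of_le ⟨T, h⟩ le_rfl

theorem Mx_le : Mx X ≤ X := iSup_le fun T => T.2

theorem smul_le (h : (T : Subgroup G) ≤ X) {g : G} (hg : g ∈ X) : ((g • T : Sylow 2 G) : Subgroup G) ≤ X :=
  fun x hx => by simpa [mul_assoc] using mul_mem (mul_mem hg (h (H11.mem_sylow_smul.1 hx))) (inv_mem hg)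

variable [Finite G]

theorem exists_syl (hS : (S : Subgroup G) ≤ X) {x : G} (hx : x ∈ X) (h2 : El2 x) :
    ∃ g ∈ X, x ∈ ((g • S : Sylow 2 G) : Subgroup G) := by
  obtain ⟨g, hg, e⟩ := (H11.isSylIn_of_sylow_le S hS).exists_cj_le h2.isPGroup (zpowers_le.2 hx)
  exact ⟨g⁻¹, inv_mem hg, H11.mem_sylow_smul.2 (by rw [inv_inv]; exact H11.cj_le_iff.1 e x (mem_zpowers x))⟩

theorem exists_smul (hS : (S : Subgroup G) ≤ X) (hT : (T : Subgroup G) ≤ X) : ∃ g ∈ X, g • S = T := by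
  obtain ⟨g, hg, e⟩ := (H11.isSylIn_of_sylow_le S hS).exists_cj_eq (H11.isSylIn_of_sylow_le T hT)
  exact ⟨g, hg, Sylow.ext e⟩

end

theorem exists_pk {G : Type u} [Group G] [Finite G] {X : Subgroup G} (h : TIx X) {S T : Sylow 2 G}
    (hS : (S : Subgroup G) ≤ X) (hT : (T : Subgroup G) ≤ X) (hne : S ≠ T) (hU : ¬ U1 (S : Subgroup G) ((S : Subgroup G) ⊓ T)) :
    ∃ (H Δ : Type u) (_ : Group H) (_ : Finite H) (_ : MulAction H Δ) (φ : Mx X →* H) (ι : Δ → Sylow 2 G) (α : Δ)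
      (t : H) (Q : Subgroup H) (r : H) (F : Type) (_ : Field F) (τ : F → H) (κ : Fˣ →* H),
      Pk (Mx X) S ((S : Subgroup G) ⊓ T) φ ι α t Q r τ κ := by
  obtain ⟨H, Δ, _, _, _, φ, ι, hB⟩ := exists_bar (Mx X) S
  haveI := hB.faith
  obtain ⟨α, hα⟩ := hB.exists_base
  have le : ∀ δ, (ι δ : Subgroup G) ≤ X := fun δ => by
    obtain ⟨g, hg, e⟩ := hB.orb' δ
    exact e ▸ smul_le hS (Mx_le hg)
  have one : ∀ (x : Mx X) (U V : Sylow 2 G), (U : Subgroup G) ≤ X → (V : Subgroup G) ≤ X → U ≠ V →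
      (x : G) ∈ (U : Subgroup G) → (x : G) ∈ (V : Subgroup G) → φ x = 1 := fun x U V h1 h2 h3 h4 h5 =>
    eq_of_smul_eq_smul (α := Δ) fun δ => by
      rw [one_smul, hB.smul_iff, fix_iff]
      exact le_normalizer (h U V _ h1 h2 (le δ) h3 x h4 h5)
  obtain ⟨g, hg, e⟩ := exists_smul (le_Mx hS) (le_Mx hT)
  have ker : ∀ x : Mx X, (x : G) ∈ (S : Subgroup G) → (φ x = 1 ↔ (x : G) ∈ (S ⊓ T : Subgroup G)) := fun x hx =>
    ⟨fun h1 => ⟨hx, mem_of_fix ((hB.eq_one_iff.1 h1).2 T ⟨g, hg, e⟩) (el2 hx)⟩, fun h1 => one x S T hS hT hne hx h1.2⟩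
  have hs : SE H Δ := ⟨fun v hv => by
    obtain ⟨x, h1, rfl⟩ := SH.el2_lift hB.surj hv.el2
    obtain ⟨k, hk, h2⟩ := exists_syl (le_Mx hS) x.2 (SH.el2_coe.2 h1)
    obtain ⟨δ, h3⟩ := (hB.orb _).1 ⟨k, hk, rfl⟩
    exact ⟨δ, hB.smul_iff.2 (fix_iff.2 (le_normalizer (h3 ▸ h2)))⟩, fun v hv γ δ h1 h2 => by
    obtain ⟨x, h3, rfl⟩ := SH.el2_lift hB.surj hv.el2
    exact by_contra fun h4 => hv.1 (one x _ _ (le γ) (le δ) (hB.inj.ne h4)
      (mem_of_fix (hB.smul_iff.1 h1) (SH.el2_coe.2 h3)) (mem_of_fix (hB.smul_iff.1 h2) (SH.el2_coe.2 h3)))⟩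
  have fa : ∀ x : Mx X, φ x • α = α ↔ (x : G) • S = S := fun x => by rw [hB.smul_iff, hα]
  simp only [U1, not_forall] at hU
  obtain ⟨x, hx, y, hy, h1, h2, h3, h4, h5, h6⟩ := hU
  set x' : Mx X := ⟨x, le_Mx hS hx⟩
  set y' : Mx X := ⟨y, le_Mx hS hy⟩
  have ix : Iv (φ x') := ⟨mt (ker x' hx).1 h4, by rw [← map_mul]; exact (ker _ h1.1).2 h1⟩
  have iy : Iv (φ y') := ⟨mt (ker y' hy).1 h5, by rw [← map_mul]; exact (ker _ h2.1).2 h2⟩
  have xy : φ x' * φ y' * (φ x' * φ y') = 1 := by rw [← map_mul, ← map_mul]; exact (ker _ h3.1).2 h3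
  have xa := (fa x').2 (fix_iff.2 (le_normalizer hx))
  obtain ⟨Q, r, F, _, τ, κ, k⟩ := exists_R1_perm hs (α := α) (fun c => by
      obtain ⟨g, hg, e⟩ := hB.orb' c
      exact ⟨φ ⟨g, hg⟩, trivial, hB.smul_iff.2 (by rw [hα]; exact e)⟩) ⟨_, trivial, ix, xa⟩
    ⟨_, _, ix.1, iy.1, fun e => h6 ((ker (x' * y') (mul_mem hx hy)).1 (by rw [map_mul, e, iy.2])), ix.2, iy.2, by
      rw [eq_inv_of_mul_eq_one_left xy, mul_inv_rev, ix.inv, iy.inv]⟩ (ix.conj (φ ⟨g, hg⟩)) fun e1 =>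
    hne (((fa ⟨g, hg⟩).1 (hs.uniq _ (ix.conj _) _ _ (conj_smul xa) e1)).symm.trans e)
  obtain ⟨P, hP⟩ := k.exists_sylow
  have mem : ∀ x : Mx X, (x : G) ∈ (S : Subgroup G) → φ x ∈ Q := fun x hx => hP ▸ mem_of_fix (fix_iff.2 (hP ▸
    mem_norm_of_forall fun y hy => H15.RO.conj_Q k.hS ((fa x).2 (fix_iff.2 (le_normalizer hx))) hy))
    ((SH.el2_coe.1 (el2 hx)).map φ)
  refine ⟨H, Δ, _, inferInstance, _, φ, ι, α, _, Q, r, F, _, τ, κ, hB, hα, k, eq_top_iff.2 fun v _ => ?_, mem,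
    fun v hv => ?_, ker⟩
  · obtain ⟨⟨g, hg⟩, rfl⟩ := hB.surj v
    exact (mem_pcomap.1 ((iSup_le fun U x hx => mem_pcomap.2 ⟨le_Mx U.2 hx,
      k.el2_mem_L0 ((SH.el2_coe.1 (el2 hx)).map φ)⟩ : Mx X ≤ pcomap φ _) hg)).2
  · obtain ⟨x, h1, rfl⟩ := SH.el2_lift hB.surj (el2_of_mem k.good.two hv)
    exact ⟨x, mem_of_fix ((fa x).1 (k.hS.le hv)) (SH.el2_coe.2 h1), rfl⟩

section
variable {G : Type*} [Group G] {S T : Sylow 2 G} {B B' D D' X Z : Subgroup G}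

/-- What is used about a Sylow intersection `B`. -/
structure Dt (S : Sylow 2 G) (B D : Subgroup G) : Prop where
  le : (S : Subgroup G) ≤ D
  fix : ∀ d ∈ D, d • S = S
  cen : ∀ d ∈ D, ∀ b ∈ B, d * b = b * d
  zen : ∀ x ∈ (S : Subgroup G), (∀ y ∈ (S : Subgroup G), y * x = x * y) → x * x ∈ B
  sq : ∀ x ∈ (S : Subgroup G), x * x * (x * x) ∈ B
  tr : ∀ x ∈ (S : Subgroup G), ∀ y ∈ (S : Subgroup G), x * x ∈ B → y * y ∈ B → x ∉ B → y ∉ B →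
    ∃ d ∈ D, (d * x * d⁻¹)⁻¹ * y ∈ B
  three : ∀ x ∈ (S : Subgroup G), ∃ y ∈ (S : Subgroup G), ∃ z ∈ (S : Subgroup G),
    ∀ w ∈ [y, z, y * z, x * y, x * z, x * (y * z)], ∃ d ∈ D, ∃ u ∈ (S : Subgroup G), u * u ∈ B ∧ w = d * x * d⁻¹ * u
  big : ¬ U1 S B

variable [Finite G]

theorem Pk.dt {M : Subgroup G} {H Δ : Type*} [Group H] [Finite H] [MulAction H Δ] {φ : M →* H} {ι : Δ → Sylow 2 G}
    {α : Δ} {t : H} {Q : Subgroup H} {r : H} {F : Type} [Field F] {τ : F → H} {κ : Fˣ →* H}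
    (k : Pk M S B φ ι α t Q r τ κ) (hS : (S : Subgroup G) ≤ M) (hc : M ≤ C⟦B⟧) (hU : ¬ U1 S B) :
    Dt S B (M ⊓ St S) := by
  have R := k.r1
  have fa : ∀ x : M, φ x • α = α → (x : G) • S = S := fun x e => by rwa [k.bar.smul_iff, k.base] at e
  have sq : ∀ x : M, (x : G) ∈ (S : Subgroup G) → (φ x ∈ Q0 τ ↔ (x : G) * x ∈ B) := fun x hx => by
    rw [R.mem_Q0', and_iff_right (k.mem x hx), ← map_mul, k.ker _ (mul_mem hx hx), coe_mul]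
  refine ⟨le_inf hS fun s hs => fix_iff.2 (le_normalizer hs), fun d hd => hd.2, fun d hd b hb =>
    (mem_cent.1 (hc hd.1) b hb).symm, fun x hx h => ?_, fun x hx => ?_, fun x hx y hy h1 h2 h3 h4 => ?_,
    fun x hx => ?_, hU⟩
  · refine (sq ⟨x, hS hx⟩ hx).1 (R.mem_Q0'.2 ⟨k.mem _ hx, R.zen (k.mem _ hx) fun y hy => ?_⟩)
    obtain ⟨y, h1, rfl⟩ := k.lift y hy
    rw [← map_mul, ← map_mul]
    exact congrArg φ (Subtype.ext (h y h1).symm)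
  · exact (sq (⟨x, hS hx⟩ * ⟨x, hS hx⟩) (mul_mem hx hx)).1 (by rw [map_mul]; exact R.sq_mem (k.mem _ hx))
  · obtain ⟨u, hu⟩ := R.mem_Q0.1 ((sq ⟨x, hS hx⟩ hx).2 h1)
    obtain ⟨v, hv⟩ := R.mem_Q0.1 ((sq ⟨y, hS hy⟩ hy).2 h2)
    have u0 : u ≠ 0 := fun e => h3 ((k.ker ⟨x, hS hx⟩ hx).1 (by rw [← hu, e, R.tau_zero]))
    have v0 : v ≠ 0 := fun e => h4 ((k.ker ⟨y, hS hy⟩ hy).1 (by rw [← hv, e, R.tau_zero]))
    obtain ⟨d, hd⟩ := k.bar.surj (κ (Units.mk0 (v / u) (div_ne_zero v0 u0)))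
    have h5 := fa d (hd ▸ R.kap_fix _)
    refine ⟨d, ⟨d.2, h5⟩, (k.ker ((d * ⟨x, hS hx⟩ * d⁻¹)⁻¹ * ⟨y, hS hy⟩)
      (mul_mem (inv_mem (conj_mem h5 hx)) hy)).1 ?_⟩
    rw [map_mul, map_inv, map_mul, map_mul, map_inv, hd, ← hu, ← hv, R.conj, Units.val_mk0, div_mul_cancel₀ _ u0,
      inv_mul_cancel]
  · obtain ⟨y, hy, z, hz, e⟩ := R.three k.top (k.mem ⟨x, hS hx⟩ hx)
    obtain ⟨y, h1, rfl⟩ := k.lift y hy
    obtain ⟨z, h2, rfl⟩ := k.lift z hz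
    have key : ∀ w : M, (w : G) ∈ (S : Subgroup G) → Sim α (Q0 τ) (φ ⟨x, hS hx⟩) (φ w) →
        ∃ d ∈ M ⊓ St S, ∃ u ∈ (S : Subgroup G), u * u ∈ B ∧ w = d * x * d⁻¹ * u := fun w hw ⟨d, h3, h4⟩ => by
      obtain ⟨d, rfl⟩ := k.bar.surj d
      have h5 := mul_mem (inv_mem (conj_mem (fa d h3) hx)) hw
      exact ⟨d, ⟨d.2, fa d h3⟩, _, h5, (sq ((d * ⟨x, hS hx⟩ * d⁻¹)⁻¹ * w) h5).1 (by simpa using h4), by group⟩
    simp only [List.forall_mem_cons, ← map_mul] at e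
    obtain ⟨e1, e2, e3, e4, e5, e6, -⟩ := e
    refine ⟨y, h1, z, h2, ?_⟩
    simp only [List.forall_mem_cons]
    exact ⟨key _ h1 e1, key _ h2 e2, key _ (mul_mem h1 h2) e3, key _ (mul_mem hx h1) e4, key _ (mul_mem hx h2) e5,
      key _ (mul_mem hx (mul_mem h1 h2)) e6, by simp⟩

theorem odd_orbit {b w : G} (hb : ∀ s ∈ (S : Subgroup G), s * b = b * s) (hw : Iv w)
    (h : ∀ n : G, n • S = S → ∃ m : G, m • S = S ∧ m * b * m⁻¹ = n * b * n⁻¹ * w) : False := by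
  letI := MulAction.compHom G ((MulAut.conj : G →* MulAut G).comp (St S : Subgroup G).subtype)
  have h1 : (S : Subgroup G).subgroupOf (St S) ≤ stabilizer (St S : Subgroup G) b := fun s hs =>
    mul_inv_eq_iff_eq_mul.2 (hb s hs)
  have h2 := (index_dvd_of_le h1).trans (Dvd.intro _ (relIndex_mul_index
    (show (S : Subgroup G) ≤ St S from fun s hs => fix_iff.2 (le_normalizer hs))))
  rw [index_stabilizer] at h2
  refine S.not_dvd_index (Dvd.dvd.trans ?_ h2)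
  let f : Function.End (orbit (St S : Subgroup G) b) := fun y => ⟨y * w, by
    obtain ⟨_, n, rfl⟩ := y
    obtain ⟨m, h3, h4⟩ := h n n.2
    exact ⟨⟨m, h3⟩, h4⟩⟩
  classical
  haveI := Fintype.ofFinite (orbit (St S : Subgroup G) b)
  have h3 := Equiv.Perm.card_fixedPoints_modEq (f := f) (p := 2) (n := 1)
    (funext fun y => Subtype.ext (hw.mul_mul' y))
  rw [Fintype.card_eq_zero_iff (α := f.fixedPoints).2
    ⟨fun y => hw.1 (mul_eq_left.1 (congrArg Subtype.val (show f y.1 = y.1 from y.2)))⟩] at h3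
  rw [← Nat.card_coe_set_eq, Nat.card_eq_fintype_card]
  exact (Nat.modEq_zero_iff_dvd).1 h3

end

end Cfsg.Agent.CI
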