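/-
Groups with central Sylow 2-intersections: two different intersections are impossible.
-/
import Cfsg.Agent.CI.B

set_option autoImplicit false
set_option linter.style.haveILetI false

namespace Cfsg.Agent.CI

open Subgroup MulAction Cfsg.Agent.H20 Cfsg.Agent.H21 Cfsg.Agent.BS.Bd Cfsg.Agent.BS

variable {G : Type*} [Group G] [Finite G] {S T : Sylow 2 G} {B B' D D' X Z : Subgroup G}

/-- The squares of `S` form a complement to `B` in the centre, permuted transitively by `D`. -/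
theorem Dt.squares (k : Dt S B D) (hA : ∀ a ∈ (S : Subgroup G), a * a = 1 → ∀ s ∈ (S : Subgroup G), s * a = a * s)
    (h2 : ∀ x ∈ (S : Subgroup G), x * x ∈ B → x * x = 1) {x : G} (hx : x ∈ (S : Subgroup G)) (h1 : x * x ≠ 1) :
    ∃ W : Subgroup G, (∀ w, w ∈ W ↔ ∃ y ∈ (S : Subgroup G), y * y = w) ∧ (∀ w ∈ W, w ∈ B → w = 1) ∧
      (∀ a ∈ (S : Subgroup G), a * a = 1 → ∃ w ∈ W, w⁻¹ * a ∈ B) ∧
      ∀ v ∈ W, ∀ w ∈ W, v ≠ 1 → w ≠ 1 → ∃ d ∈ D, d * v * d⁻¹ = w := by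
  have hn : D ≤ N⟦(S : Subgroup G)⟧ := fun d hd => fix_iff.1 (k.fix d hd)
  obtain ⟨E, hE⟩ := exists_compl_of_coprime (A := S) (M := D) ⟨k.le, hn⟩ (by
    obtain ⟨n, e⟩ := S.2.exists_card_eq
    exact e ▸ Nat.Coprime.pow_left n (Nat.prime_two.coprime_iff_not_dvd.2 fun h => S.not_dvd_index
      (h.trans (Dvd.intro _ (relIndex_mul_index k.le)))))
  set A := (S : Subgroup G) ⊓ C⟦(S : Subgroup G)⟧
  have mA : ∀ a, a ∈ A ↔ a ∈ (S : Subgroup G) ∧ a * a = 1 := fun a => and_congr_right fun ha =>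
    ⟨fun h => h2 a ha (k.zen a ha (mem_cent.1 h)), fun h => mem_cent.2 (hA a ha h)⟩
  have nA : D ≤ N⟦A⟧ := norm_inf hn (norm_cent hn)
  have hW := commg_le_left (hE.2.1.trans nA)
  have oE : Odd ♯E := by
    rw [← Compl.relIndex_left hE, ← Nat.not_even_iff_odd, even_iff_two_dvd]
    exact fun h => S.not_dvd_index (h.trans (Dvd.intro _ (relIndex_mul_index k.le)))
  have h3 := coprime_comm_commg_inf_cent (V := A) (comm_iff.2 fun a ha b hb => mem_cent.1 hb.2 a ha.1)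
    (hE.2.1.trans nA) (by
      obtain ⟨n, e⟩ := (S.2.to_le (inf_le_left : A ≤ S)).exists_card_eq
      exact e ▸ Nat.Coprime.pow_left n (Nat.coprime_two_left.2 oE))
  have WB : ∀ w ∈ ⁅A, E⁆, w ∈ B → w = 1 := fun w h4 h5 =>
    mem_bot.1 (h3 ▸ mem_inf.2 ⟨h4, mem_cent.2 fun e he => k.cen e (hE.2.1 he) w h5⟩)
  have nW : D ≤ N⟦⁅A, E⁆⟧ := Compl.sup_eq hE ▸ sup_le (norm_of_cent (le_centralizer_iff.1 (hW.trans inf_le_right)))
    (le_sup_right.trans (sup_le_norm_commg A E))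
  have cW : ∀ d ∈ D, ∀ a ∈ A, a⁻¹ * (d * a * d⁻¹) ∈ ⁅A, E⁆ := fun d hd a ha => by
    obtain ⟨s, hs, e, he, rfl⟩ := Compl.prod hE d hd
    have := mem_cent.1 (conj_mem_of_norm (nA (hE.2.1 he)) ha).2 s hs
    convert commutator_mem_commutator (inv_mem ha) he using 1
    rw [commutatorElement_def, inv_inv, mul_assoc a⁻¹, mul_assoc a⁻¹, ← mul_inv_cancel_right (e * a * e⁻¹) s, ← this]
    group
  have sA : ∀ y ∈ (S : Subgroup G), y * y ∈ A := fun y hy =>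
    (mA _).2 ⟨mul_mem hy hy, h2 _ (mul_mem hy hy) (k.sq y hy)⟩
  haveI : (⁅A, E⁆.subgroupOf S).Normal := normal_subgroupOf_of_le_normalizer (k.le.trans nW)
  have sq : ∀ y ∈ (S : Subgroup G), y * y ∈ ⁅A, E⁆ := fun x hx => by
    obtain ⟨y, hy, z, hz, h⟩ := k.three x hx
    set π := QuotientGroup.mk' (⁅A, E⁆.subgroupOf S)
    have key : ∀ w : S, (∃ d ∈ D, ∃ u ∈ (S : Subgroup G), u * u ∈ B ∧ w = d * x * d⁻¹ * u) →
        π ⟨x, hx⟩ * π ⟨x, hx⟩ = π w * π w := fun w ⟨d, hd, u, hu, h4, h5⟩ => by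
      refine QuotientGroup.eq.2 (show (x * x)⁻¹ * (w * w : G) ∈ ⁅A, E⁆ from ?_)
      convert cW d hd _ (sA x hx) using 2
      rw [h5, mul_assoc _ u, ← mul_assoc u, ← hA u hu (h2 u hu h4) _ (conj_mem (k.fix d hd) hx), mul_assoc _ u,
        h2 u hu h4]
      group
    simp only [List.forall_mem_cons] at h
    obtain ⟨e1, e2, e3, e4, e5, e6, -⟩ := h
    refine (QuotientGroup.eq_one_iff (⟨x, hx⟩ * ⟨x, hx⟩ : S)).1 (SH.sq_of_three (x := π ⟨x, hx⟩) (y := π ⟨y, hy⟩)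
      (z := π ⟨z, hz⟩) ?_)
    simp only [List.forall_mem_cons, ← map_mul π (_ : S) (⟨z, hz⟩ : S), ← map_mul π (⟨x, hx⟩ : S) (⟨y, hy⟩ : S),
      ← map_mul π (⟨x, hx⟩ : S) (⟨y, hy⟩ * ⟨z, hz⟩ : S)]
    exact ⟨key _ e1, key _ e2, key _ e3, key _ e4, key _ e5, key _ e6, by simp⟩
  have tr : ∀ v ∈ ⁅A, E⁆, v ≠ 1 → ∀ a ∈ A, a ∉ B → ∃ d ∈ D, (d * v * d⁻¹)⁻¹ * a ∈ B := fun v hv v1 a ha aB =>
    k.tr v (hW hv).1 a ha.1 (((mA v).1 (hW hv)).2 ▸ one_mem _) (((mA a).1 ha).2 ▸ one_mem _) (mt (WB v hv) v1) aB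
  have tr' : ∀ v ∈ ⁅A, E⁆, ∀ w ∈ ⁅A, E⁆, v ≠ 1 → w ≠ 1 → ∃ d ∈ D, d * v * d⁻¹ = w := fun v hv w hw v1 w1 => by
    obtain ⟨d, hd, e⟩ := tr v hv v1 w (hW hw) (mt (WB w hw) w1)
    exact ⟨d, hd, inv_mul_eq_one.1 (WB _ (mul_mem (inv_mem (conj_mem_of_norm (nW hd) hv)) hw) e)⟩
  refine ⟨_, fun w => ⟨fun hw => ?_, fun ⟨y, hy, e⟩ => e ▸ sq y hy⟩, WB, fun a ha e => ?_, tr'⟩
  · by_cases w1 : w = 1
    · exact ⟨1, one_mem _, by simp [w1]⟩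
    obtain ⟨d, hd, rfl⟩ := tr' _ (sq x hx) w hw h1 w1
    exact ⟨_, conj_mem (k.fix d hd) hx, by group⟩
  · by_cases aB : a ∈ B
    · exact ⟨1, one_mem _, by simpa using aB⟩
    obtain ⟨d, hd, h4⟩ := tr _ (sq x hx) h1 a ((mA a).2 ⟨ha, e⟩) aB
    exact ⟨_, conj_mem_of_norm (nW hd) (sq x hx), h4⟩

theorem two_Dt (z : Zs S Z) (hZ : ∀ a ∈ (S : Subgroup G), a * a = 1 → a ∈ Z) (k : Dt S B D) (k' : Dt S B' D')
    (hB : B ≤ Z) (hB' : B' ≤ Z) {b b' : G} (hb : b ∈ B) (hb' : b' ∈ B') (b1 : b ≠ 1) (b1' : b' ≠ 1)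
    (h : ∀ x ∈ B, x ∈ B' → x = 1) : False := by
  have hA : ∀ a ∈ (S : Subgroup G), a * a = 1 → ∀ s ∈ (S : Subgroup G), s * a = a * s := fun a ha e =>
    z.cen a (hZ a ha e)
  have mul : ∀ a ∈ (S : Subgroup G), ∀ c ∈ (S : Subgroup G), a * a = 1 → c * c = 1 → a * c * (a * c) = 1 :=
    fun a ha c hc e f => by rw [mul_assoc, ← mul_assoc c, hA a ha e c hc, mul_assoc, f, mul_one, e]
  have two : ∀ {B D : Subgroup G}, Dt S B D → B ≤ Z → (∀ x ∈ B, x * x = 1) → ∀ b', b' ∈ (S : Subgroup G) → b' ∉ B →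
      b' * b' = 1 → ∀ x ∈ (S : Subgroup G), x * x ∈ B → x * x = 1 := fun {B D} k hB h1 b' h2 h3 h4 x hx e => by
    by_cases h5 : x ∈ B
    · exact h1 x h5
    obtain ⟨d, hd, h6⟩ := k.tr b' h2 x hx (h4 ▸ one_mem _) e h3 h5
    simpa only [mul_inv_cancel_left] using mul _ (conj_mem (k.fix d hd) h2) _ (z.le (hB h6)) (by rw [conj_mul, h4]; simp) (h1 _ h6)
  have s1 : ∀ x ∈ B, x * x = 1 := fun x hx => h _ (mul_mem hx hx) (k'.zen x (z.le (hB hx)) (z.cen x (hB hx)))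
  have s2 : ∀ x ∈ B', x * x = 1 := fun x hx => h _ (k.zen x (z.le (hB' hx)) (z.cen x (hB' hx))) (mul_mem hx hx)
  obtain ⟨x, hx, h1⟩ : ∃ x ∈ (S : Subgroup G), x * x ≠ 1 := by
    by_contra! e
    exact z.nc 1 (one_mem _) fun s hs => mem_sup_right (hZ s hs (e s hs))
  have t1 := two k hB s1 b' (z.le (hB' hb')) (fun e => b1' (h _ e hb')) (s2 _ hb')
  obtain ⟨W, w1, w2, w3, w4⟩ := k.squares hA t1 hx h1
  obtain ⟨W', w1', w2', w3', w4'⟩ := k'.squares hA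
    (two k' hB' s2 b (z.le (hB hb)) (fun e => b1 (h _ hb e)) (s1 _ hb)) hx h1
  obtain rfl : W = W' := Subgroup.ext fun w => (w1 w).trans (w1' w).symm
  have WS : W ≤ S := fun w hw => let ⟨y, hy, e⟩ := (w1 w).1 hw; e ▸ mul_mem hy hy
  have W2 : ∀ w ∈ W, w * w = 1 := fun w hw => let ⟨y, hy, e⟩ := (w1 w).1 hw; e ▸ t1 _ (mul_mem hy hy) (k.sq y hy)
  obtain ⟨w, hw, hc⟩ := w3' b (z.le (hB hb)) (s1 b hb)
  have n1 : w ≠ 1 := fun e => b1 (h b hb (by simpa [e] using hc))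
  obtain ⟨v, hv, v1, v2⟩ : ∃ v ∈ W, v ≠ 1 ∧ v ≠ w := by
    by_contra! e
    refine k.big fun x hx y hy h2 h3 _ h4 h5 => ?_
    obtain ⟨u, hu, h6⟩ := w3 x hx (t1 x hx h2)
    obtain ⟨u', hu', h7⟩ := w3 y hy (t1 y hy h3)
    rw [e u hu fun e => h4 (by simpa [e] using h6)] at h6
    rw [e u' hu' fun e => h5 (by simpa [e] using h7)] at h7
    convert mul_mem h6 h7 using 1
    rw [mul_assoc, ← mul_assoc x, ← inv_eq_of_mul_eq_one_left (W2 w hw), inv_inv, hA w (WS hw) (W2 w hw) x hx,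
      mul_assoc, ← mul_assoc w, W2 w hw, one_mul]
  have o1 : ∀ u ∈ W, u ≠ w⁻¹ → ∃ m : G, m • S = S ∧ m * b * m⁻¹ = b * u := fun u hu e => by
    obtain ⟨d, hd, h2⟩ := w4' w hw (w * u) (mul_mem hw hu) n1 fun f => e (eq_inv_of_mul_eq_one_right f)
    refine ⟨d, k'.fix d hd, ?_⟩
    rw [← mul_inv_cancel_left w b, ← conj_mul, h2, k'.cen d hd _ hc, mul_inv_cancel_right, mul_assoc,
      z.cen _ (hB' hc) u (WS hu), ← mul_assoc w]
  have o2 : ∀ u ∈ W, ∃ m : G, m • S = S ∧ m * b * m⁻¹ = b * u := fun u hu => by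
    by_cases e : u = w⁻¹
    · obtain ⟨m, h2, h3⟩ := o1 v⁻¹ (inv_mem hv) (inv_injective.ne v2)
      obtain ⟨d, hd, h4⟩ := w4 v⁻¹ (inv_mem hv) u hu (inv_ne_one.2 v1) (e ▸ inv_ne_one.2 n1)
      refine ⟨d * m, by rw [mul_smul, h2, k.fix d hd], ?_⟩
      rw [← h4, show d * m * b * (d * m)⁻¹ = d * (m * b * m⁻¹) * d⁻¹ by group, h3, ← mul_assoc, k.cen d hd b hb]
      group
    · exact o1 u hu e
  refine odd_orbit (z.cen b (hB hb)) ⟨n1, W2 w hw⟩ fun n hn => ?_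
  obtain ⟨y, hy, rfl⟩ := (w1 w).1 hw
  have h2 := conj_mem (inv_smul_eq_iff.2 hn.symm) hy
  obtain ⟨m, h3, h4⟩ := o2 _ ((w1 _).2 ⟨_, h2, rfl⟩)
  exact ⟨n * m, by rw [mul_smul, h3, hn], by
    rw [show n * m * b * (n * m)⁻¹ = n * (m * b * m⁻¹) * n⁻¹ by group, h4]; group⟩

end Cfsg.Agent.CI
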