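/-
Groups with central Sylow 2-intersections: all intersections coincide.
-/
import Cfsg.Agent.CI.C

set_option autoImplicit false
set_option linter.style.haveILetI false

namespace Cfsg.Agent.CI

open Subgroup MulAction Cfsg.Agent.H20 Cfsg.Agent.H21 Cfsg.Agent.BS.Bd Cfsg.Agent.BS

universe u

/-- The inductive hypothesis. -/
def Hy (G : Type*) [Group G] : Prop :=
  (∀ S : Sylow 2 G, ∃ B, Zs S B) ∧ ∀ R : Subgroup G, R.Normal → Odd ♯R → ∀ S : Sylow 2 G, R ≤ C⟦(S : Subgroup G)⟧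

section
variable {G : Type*} [Group G] {S T : Sylow 2 G} {B B' X Y : Subgroup G} {c x : G}

theorem mem_C0 : c ∈ C⟦Mx (⊤ : Subgroup G)⟧ ↔ ∀ T : Sylow 2 G, c ∈ C⟦(T : Subgroup G)⟧ := by
  rw [← zpowers_le, le_centralizer_iff, Mx, iSup_le_iff]
  exact ⟨fun h T => zpowers_le.1 (le_centralizer_iff.1 (h ⟨T, le_top⟩)),
    fun h T => le_centralizer_iff.1 (zpowers_le.2 (h T.1))⟩

instance normal_Mx : (Mx (⊤ : Subgroup G)).Normal := ⟨fun n hn g => by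
  refine (iSup_le fun T x hx => ?_ : Mx ⊤ ≤ (Mx ⊤).comap (MulAut.conj g).toMonoidHom) hn
  exact le_Mx le_top (mem_smul hx g)⟩

theorem fix_of_cent (h : c ∈ C⟦(T : Subgroup G)⟧) : c • T = T := fix_iff.2 (centralizer_le_normalizer _ h)

variable [Finite G]

theorem exists_sub (hS : (S : Subgroup G) ≤ X) (P : Sylow 2 X) :
    ∃ T : Sylow 2 G, ∃ h : (T : Subgroup G) ≤ X, T.subtype h = P := by
  obtain ⟨g, rfl⟩ := exists_smul_eq X (S.subtype hS) P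
  exact ⟨_, _, (Sylow.smul_subtype hS g).symm⟩

theorem Hy.sub (hz : ∀ S : Sylow 2 G, ∃ B, Zs S B ∧ ∀ B' ≤ B, ¬ U1 S B') (hS : (S : Subgroup G) ≤ X) : Hy X := by
  refine ⟨fun P => ?_, fun R hR ho P r hr => ?_⟩ <;> obtain ⟨T, h, rfl⟩ := exists_sub hS P <;> obtain ⟨B, z, hU⟩ := hz T
  · refine ⟨B.subgroupOf X, fun b hb => z.le hb, fun b hb s hs => Subtype.ext (z.cen b hb s hs),
      fun x hx ⟨P, Q, h1, h2, h3⟩ => ?_, fun x hx e => z.nc x hx fun s hs => ?_⟩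
    · obtain ⟨U, hu, rfl⟩ := exists_sub hS P
      obtain ⟨V, hv, rfl⟩ := exists_sub hS Q
      exact z.tw x hx ⟨U, V, fun e => h1 (by subst e; rfl), h2, h3⟩
    · have := mem_map_of_mem X.subtype (e (show (⟨s, h hs⟩ : X) ∈ _ from hs))
      rw [Subgroup.map_sup, MonoidHom.map_zpowers, subgroupOf_map_subtype] at this
      exact (sup_le_sup_left inf_le_left _ : _ ≤ zpowers (x : G) ⊔ B) this
  · have := (z.odd (R := R.map X.subtype) (by rwa [card_map_of_injective X.subtype_injective]) fun t ht =>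
      mem_norm_of_forall fun _ ⟨y, hy, e⟩ => ⟨_, hR.conj_mem y hy ⟨t, h ht⟩, e ▸ rfl⟩).resolve_right
        fun ⟨B', h1, h2⟩ => hU B' h1 h2
    exact mem_cent.2 fun s hs => Subtype.ext (mem_cent.1 (this (mem_map_of_mem _ hr)) s hs)

omit [Finite G] in
theorem TIx.of_sub (h : TIx (⊤ : Subgroup X)) : TIx X := fun S T U h1 h2 h3 e x hx hx' =>
  h (S.subtype h1) (T.subtype h2) (U.subtype h3) le_top le_top le_top (fun f => e (Sylow.subtype_injective f))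
    ⟨x, h1 hx⟩ hx hx'

/-- A normal subgroup with a central Sylow 2-subgroup. -/
theorem exists_odd_compl [Y.Normal] (hc : ∀ o ∈ Y ⊓ S, ∀ y ∈ Y, y * o = o * y) :
    ∃ E : Subgroup G, E.Normal ∧ Odd ♯E ∧ IsComplIn (Y ⊓ S) E Y := by
  have h1 := H11.isSylIn_inf_normal S Y
  obtain ⟨n, e⟩ := h1.pg.exists_card_eq
  obtain ⟨E, hE⟩ := exists_compl_of_coprime (A := Y ⊓ S) (M := Y) ⟨inf_le_left, norm_of_cent (le_cent_iff.2
    fun y hy o ho => hc o ho y hy)⟩ (e ▸ Nat.Coprime.pow_left n (Nat.prime_two.coprime_iff_not_dvd.2 h1.not_dvd_relIndex))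
  have oE : Odd ♯E := by
    rw [← Compl.relIndex_left hE, ← Nat.not_even_iff_odd, even_iff_two_dvd]
    exact h1.not_dvd_relIndex
  refine ⟨E, ⟨fun y hy g => ?_⟩, oE, hE⟩
  obtain ⟨o, ho, e, he, h2⟩ := Compl.prod hE _ (Normal.conj_mem inferInstance _ (hE.2.1 hy) g)
  have h3 : (o * e) ^ ♯E = 1 := by
    rw [h2, conj_pow, orderOf_dvd_iff_pow_eq_one.1 (orderOf_dvd_card_of_mem hy)]; simp
  rw [Commute.mul_pow (hc o ho e (hE.2.1 he)).symm, orderOf_dvd_iff_pow_eq_one.1 (orderOf_dvd_card_of_mem he),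
    mul_one] at h3
  rwa [← h2, (el2 ho.2).eq_one (oE.of_dvd_nat (orderOf_dvd_of_pow_eq_one h3)), one_mul]

section quot
variable {G' : Type*} [Group G'] [Finite G'] {f : G →* G'} (hf : Function.Surjective f) (hk : f.ker ≤ C⟦Mx (⊤ : Subgroup G)⟧)
include hk

theorem mem_of_map (h2 : El2 x) (h : f x ∈ (T : Subgroup G).map f) : x ∈ (T : Subgroup G) := by
  obtain ⟨t, ht, e⟩ := h
  have := fix_of_cent (mem_C0.1 (hk (show f (t⁻¹ * x) = 1 by simp [e])) T)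
  refine mem_of_fix ?_ h2
  rw [← mul_inv_cancel_left t x, mul_smul, this]
  exact fix_iff.2 (le_normalizer ht)

include hf

theorem TIx.of_map (h : TIx (⊤ : Subgroup G')) : TIx (⊤ : Subgroup G) := fun S T U _ _ _ e x hx hx' =>
  mem_of_map hk (el2 hx) (h (S.mapSurjective hf) (T.mapSurjective hf) (U.mapSurjective hf) le_top le_top le_top
    (fun h1 => e (Sylow.ext ((S.3 T.2 fun y hy => mem_of_map hk (el2 hy) (by
      rw [← Sylow.coe_mapSurjective hf, ← h1]; exact mem_map_of_mem f hy)).symm)))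
    _ (mem_map_of_mem f hx) (mem_map_of_mem f hx'))

theorem Hy.map (h : Hy G) (hk' : C⟦Mx (⊤ : Subgroup G)⟧ ≤ f.ker) {U V : Sylow 2 G} (hne : U ≠ V) : Hy G' := by
  have tw : ∀ x : G, El2 x → f x = 1 → Tw x := fun x h1 h2 =>
    ⟨U, V, hne, mem_of_map hk h1 (h2 ▸ one_mem _), mem_of_map hk h1 (h2 ▸ one_mem _)⟩
  refine ⟨fun P => ?_, fun R hR ho P r hr => ?_⟩ <;> obtain ⟨S, rfl⟩ := Sylow.mapSurjective_surjective hf 2 P <;>
    obtain ⟨B, z⟩ := h.1 S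
  · refine ⟨B.map f, map_mono z.le, ?_, ?_, ?_⟩
    · rintro _ ⟨b, hb, rfl⟩ _ ⟨s, hs, rfl⟩
      rw [← map_mul, z.cen b hb s hs, map_mul]
    · rintro _ ⟨x, hx, rfl⟩ ⟨P, Q, h1, h2, h3⟩
      obtain ⟨P, rfl⟩ := Sylow.mapSurjective_surjective hf 2 P
      obtain ⟨Q, rfl⟩ := Sylow.mapSurjective_surjective hf 2 Q
      exact mem_map_of_mem f (z.tw x hx ⟨P, Q, fun e => h1 (e ▸ rfl), mem_of_map hk (el2 hx) h2, mem_of_map hk (el2 hx) h3⟩)
    · rintro _ ⟨x, hx, rfl⟩ e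
      refine z.nc x hx fun s hs => ?_
      obtain ⟨y, hy, e⟩ : f s ∈ (zpowers x ⊔ B).map f := by
        rw [Subgroup.map_sup, MonoidHom.map_zpowers]; exact e (mem_map_of_mem f hs)
      have h1 := mul_mem (inv_mem (sup_le (zpowers_le.2 hx) z.le hy)) hs
      simpa using mul_mem hy (mem_sup_right (z.tw _ h1 (tw _ (el2 h1) (by simp [e]))))
  · obtain ⟨r, rfl⟩ := hf r
    haveI : (f.ker ⊓ S).Normal := ⟨fun y hy g => ⟨Normal.conj_mem inferInstance _ hy.1 g,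
      mem_of_map hk ((el2 hy.2).conj g) ((Normal.conj_mem inferInstance _ hy.1 g : f _ = 1) ▸ one_mem _)⟩⟩
    obtain ⟨E, h1, h2, h3⟩ := exists_odd_compl (S := S) (Y := R.comap f ⊓ C⟦f.ker ⊓ S⟧) fun o ho y hy =>
      (mem_cent.1 hy.2 o ⟨((el2 ho.2).map f).eq_one (odd_ord ‹_› ho.1.1), ho.2⟩).symm
    refine mem_cent.2 ?_
    rintro _ ⟨s, hs, rfl⟩
    have h4 : s ∈ C⟦f.ker ⊓ S⟧ := mem_cent.2 fun y hy => (mem_cent.1 (mem_C0.1 (hk hy.1) S) s hs).symm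
    obtain ⟨o, h5, e, he, h6⟩ := Compl.prod h3 (s * r * s⁻¹ * r⁻¹) ⟨mul_mem (Normal.conj_mem inferInstance r hr s)
      ((R.comap f).inv_mem hr), by simpa [mul_assoc] using mul_mem h4 (Normal.conj_mem inferInstance _ (inv_mem h4) r)⟩
    have h7 : f (o * e) = 1 := by
      rw [map_mul, ((el2 h5.2).map f).eq_one (odd_ord ho h5.1.1), one_mul]
      exact hk' (mem_C0.2 (fun T => h.2 E h1 h2 T he))
    rwa [h6, map_mul, map_mul, map_mul, map_inv, map_inv, mul_inv_eq_one, mul_inv_eq_iff_eq_mul] at h7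

end quot

/-- The dihedral argument. -/
theorem Zs.dihedral (z : Zs S B) (hx : x ∈ (S : Subgroup G)) (h2 : x * x = 1) (hB : x ∉ B) {a : G} (ha : Iv a)
    (ht : Tw a) : a ∈ (S : Subgroup G) := by
  have xi : x⁻¹ = x := inv_eq_of_mul_eq_one_right h2
  obtain ⟨k, m, hm, e⟩ := Nat.exists_eq_two_pow_mul_odd (orderOf_pos (x * a)).ne'
  obtain ⟨j, rfl⟩ := hm
  set v := (x * a) ^ (2 * j + 1) with hv
  have inv : ∀ n : ℕ, x * (x * a) ^ n * x⁻¹ = ((x * a) ^ n)⁻¹ := fun n => by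
    rw [← conj_pow, ← mul_assoc, h2, one_mul, ← inv_pow, mul_inv_rev, ha.inv]
  have h3 : x * v = ((x * a) ^ j)⁻¹ * a * ((x * a) ^ j)⁻¹⁻¹ := by
    rw [inv_inv, ← inv j, mul_assoc _ x⁻¹, xi, hv, mul_assoc _ (x * a), mul_assoc x, ← pow_succ', ← pow_add]
    congr 2; ring
  have h4 : IsPGroup 2 (zpowers x ⊔ zpowers v :) := IsPGroup.to_sup_of_normal_right' (el2 hx).isPGroup
    (El2.isPGroup ⟨k, by rw [hv, ← pow_mul, mul_comm _ (2 ^ k), ← e, pow_orderOf_eq_one]⟩)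
    (zpowers_le.2 (mem_norm_of_forall fun _ ⟨i, hi⟩ => by
      rw [← hi, ← conj_zpow, inv]; exact zpow_mem (inv_mem (mem_zpowers _)) i))
  obtain ⟨T, hT⟩ := h4.exists_le_sylow
  obtain rfl : S = T := by_contra fun e => hB (z.tw x hx ⟨S, T, e, hx, hT (mem_sup_left (mem_zpowers x))⟩)
  have vS := hT (mem_sup_right (mem_zpowers v))
  have h5 := z.tw _ (mul_mem hx vS) (h3 ▸ ht.conj _)
  refine mem_of_fix (fix_of (fun h => hB ((mul_mem_cancel_right (z.tw v vS h)).1 h5)) vS ?_) ha.el2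
  rw [hv, ← conj_pow, mul_assoc, mul_inv_cancel_right, ← xi, ← ha.inv, ← mul_inv_rev, inv_pow]
  exact inv_mem vS

end

theorem Hy.ti {G : Type u} [Group G] [Finite G] (h : Hy G) : TIx (⊤ : Subgroup G) := by
  induction hn : Nat.card G using Nat.strong_induction_on generalizing G with
  | _ n ih =>
  by_cases hC : C⟦Mx (⊤ : Subgroup G)⟧ = ⊥
  swap
  · intro S T U h1 h2 h3 hne
    have hk := QuotientGroup.ker_mk' C⟦Mx (⊤ : Subgroup G)⟧
    exact TIx.of_map (QuotientGroup.mk'_surjective _) hk.le (ih _ (hn ▸ H1.card_quotient_lt hC)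
      (h.map (QuotientGroup.mk'_surjective _) hk.le hk.ge hne) rfl) S T U h1 h2 h3 hne
  choose B z using h.1
  have one : ∀ c : G, (∀ T : Sylow 2 G, c ∈ C⟦(T : Subgroup G)⟧) → c = 1 := fun c e => mem_bot.1 (hC ▸ mem_C0.2 e)
  have hO : oddCore G = ⊥ := eq_bot_iff.2 fun c hc => one c fun T => h.2 _ inferInstance odd_oddCore' T hc
  have hU : ∀ S, ∀ B' ≤ B S, ¬ U1 S B' := fun S B' h1 h2 => by
    obtain ⟨c, h3, h4, h5⟩ := (z S).inv h1 h2
    refine h4.1 (one c fun T => mem_cent.2 fun g _ => ?_)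
    have := (z S).iso (fun T => ⟨_, z T⟩) h3 h4 h5 g
    rw [hO, mem_bot, mul_inv_eq_one, mul_inv_eq_iff_eq_mul] at this
    exact this.symm
  have all : ∀ a : G, Tw a → (∀ T : Sylow 2 G, a ∈ (T : Subgroup G)) → a = 1 := fun a h1 h2 =>
    one a fun T => mem_cent.2 ((z T).cen a ((z T).tw a (h2 T) h1))
  intro S T V _ _ _ hne x hx hx'
  refine by_contra fun h0 => ?_
  have x1 : x ≠ 1 := fun e => h0 (e ▸ one_mem _)
  have iv : ∀ U : Sylow 2 G, ∀ y ∈ (S : Subgroup G) ⊓ U, y ≠ 1 → ∃ a ∈ (S : Subgroup G) ⊓ U, Iv a := fun U y hy y1 =>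
    let ⟨a, h1, h2⟩ := (el2 hy.1).exists_iv y1
    ⟨a, zpowers_le.2 hy h1, h2⟩
  obtain ⟨a, ha, ia⟩ := iv T x ⟨hx, hx'⟩ x1
  have ta : Tw a := ⟨S, T, hne, ha⟩
  have hZ : ∀ y ∈ (S : Subgroup G), y * y = 1 → y ∈ B S := fun y hy e => by_contra fun h1 => ia.1 (all a ta fun U => by
    obtain ⟨g, rfl⟩ := exists_smul_eq G S U
    simpa [mul_assoc] using mem_smul ((z S).dihedral hy e h1 (ia.conj g⁻¹) (ta.conj g⁻¹)) g)
  have cen : ∀ U V : Sylow 2 G, U ≠ V → ∀ b ∈ (U : Subgroup G) ⊓ V, (U : Subgroup G) ≤ C₁⟦b⟧ :=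
    fun U V e b hb s hs => mem_cent1.2 ((z U).cen b ((z U).tw b hb.1 ⟨U, V, e, hb⟩) s hs)
  have ti : ∀ U : Sylow 2 G, S ≠ U → ∀ b ∈ (S : Subgroup G) ⊓ U, b ≠ 1 → TIx C₁⟦b⟧ := fun U e b hb b1 =>
    TIx.of_sub (ih _ (hn ▸ H1.card_lt_of_ne_top fun e => b1 (one b fun T => mem_cent.2 fun g _ =>
      mem_cent1.1 (e ▸ mem_top g))) (Hy.sub (fun T => ⟨_, z T, hU T⟩) (cen S U e b hb)) rfl)
  have le : ∀ U : Sylow 2 G, S ≠ U → (S : Subgroup G) ⊓ U ≤ B S := fun U e b hb => (z S).tw b hb.1 ⟨S, U, e, hb⟩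
  have dt : ∀ U : Sylow 2 G, S ≠ U → ∀ b ∈ (S : Subgroup G) ⊓ U, b ≠ 1 → ∃ D, Dt S ((S : Subgroup G) ⊓ U) D := fun U e b hb b1 => by
    have h1 := cen S U e b hb
    have h2 := cen U S e.symm b ⟨hb.2, hb.1⟩
    obtain ⟨H, Δ, _, _, _, φ, ι, α, t, Q, r, F, _, τ, κ, k⟩ := exists_pk (ti U e b hb b1) h1 h2 e (hU S _ (le U e))
    exact ⟨_, k.dt (le_Mx h1) (iSup_le fun W => le_cent_iff.2 fun w hw c hc => (z W).cen c ((z W).tw c
      (ti U e b hb b1 S U W h1 h2 W.2 e c hc.1 hc.2) ⟨S, U, e, hc⟩) w hw) (hU S _ (le U e))⟩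
  have same : ∀ U : Sylow 2 G, S ≠ U → ∀ b ∈ (S : Subgroup G) ⊓ U, b ≠ 1 → (S : Subgroup G) ⊓ U = (S : Subgroup G) ⊓ T :=
    fun U e b hb b1 => by
    obtain ⟨D, k⟩ := dt U e b hb b1
    obtain ⟨D', k'⟩ := dt T hne a ha ia.1
    obtain ⟨c, h1, h2, h3⟩ : ∃ c ∈ (S : Subgroup G) ⊓ U, c ∈ (S : Subgroup G) ⊓ T ∧ c ≠ 1 := by
      by_contra! h1
      exact two_Dt (z S) hZ k k' (le U e) (le T hne) hb ha b1 ia.1 h1
    have h4 := ti U e c h1 h3
    have h5 := cen S U e c h1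
    have h6 := cen U S e.symm c ⟨h1.2, h1.1⟩
    have h7 := cen T S hne.symm c ⟨h2.2, h2.1⟩
    exact le_antisymm (fun y hy => ⟨hy.1, h4 S U T h5 h6 h7 e y hy.1 hy.2⟩)
      fun y hy => ⟨hy.1, h4 S T U h5 h7 h6 hne y hy.1 hy.2⟩
  have nS : ∀ U V : Sylow 2 G, U ≠ V → (U : Subgroup G) ≤ N⟦(U : Subgroup G) ⊓ V⟧ := fun U V e =>
    norm_of_cent (le_cent_iff.2 fun s hs b hb => mem_cent1.1 (cen U V e b hb hs))
  have se : IsStronglyEmbedded N⟦(S : Subgroup G) ⊓ T⟧ := by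
    refine H11.isStronglyEmbedded_of_normalizers_le (fun e => ia.1 (all a ta fun U => ?_))
      (H11.isSylIn_of_sylow_le S (nS S T hne)) (ne_bot_of_mem hx x1) fun X hX X1 g hg => mem_norm_of_forall fun b hb => ?_
    · obtain ⟨g, rfl⟩ := exists_smul_eq G S U
      have := (conj_mem_of_norm (e ▸ mem_top g⁻¹ : g⁻¹ ∈ N⟦(S : Subgroup G) ⊓ T⟧) ha).1
      exact H11.mem_sylow_smul.2 (by rwa [inv_inv] at this)
    by_cases e : g • S = S
    · rw [← same (g • T) (fun f => hne (smul_left_cancel g (e.trans f))) _ ⟨conj_mem e ha.1, mem_smul ha.2 g⟩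
        (ia.conj g).1]
      exact ⟨conj_mem e hb.1, mem_smul hb.2 g⟩
    obtain ⟨⟨y, hy⟩, y1⟩ := ne_bot_iff_exists_ne_one.1 X1
    replace y1 : y ≠ 1 := fun e => y1 (Subtype.ext e)
    rw [← same (g⁻¹ • S) (fun f => e (eq_inv_smul_iff.1 f)) y ⟨hX hy, H11.mem_sylow_smul.2 (by
      rw [← inv_inv g, inv_inv g⁻¹, inv_inv g]; exact hX (conj_mem_of_norm hg hy))⟩ y1] at hb
    rw [← same (g • S) (Ne.symm e) y ⟨hX hy, H11.mem_sylow_smul.2 (by
      have := hX (conj_mem_of_norm (inv_mem hg) hy); rwa [inv_inv] at this)⟩ y1]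
    exact ⟨smul_inv_smul g S ▸ mem_smul hb.2 g, mem_smul hb.1 g⟩
  have h2 := hU S ⊥ bot_le
  simp only [U1, not_forall, mem_bot] at h2
  obtain ⟨x, -, y, -, h1, h2, h3, h4, h5, h6⟩ := h2
  obtain ⟨P, hP⟩ := eq_normalizer se ⟨x, y, h4, h5, fun e => h6 (e ▸ h1), h1, h2, by
    rw [eq_inv_of_mul_eq_one_left h3, mul_inv_rev, inv_eq_of_mul_eq_one_left h1, inv_eq_of_mul_eq_one_left h2]⟩ hO
  have key : ∀ U : Sylow 2 G, (U : Subgroup G) ≤ N⟦(S : Subgroup G) ⊓ T⟧ → U = P := fun U e =>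
    Sylow.ext (U.3 P.2 fun y hy => mem_of_fix (fix_iff.2 (hP ▸ e hy)) (el2 hy)).symm
  exact hne ((key S (nS S T hne)).trans (key T (inf_comm (S : Subgroup G) T ▸ nS T S hne.symm)).symm)

end Cfsg.Agent.CI
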