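/-
Groups with central Sylow 2-intersections: the simple case.
-/
import Cfsg.Agent.CI.D
import Cfsg.Agent.S3183
import Cfsg.Agent.S0252
import Cfsg.Agent.S0253
import Cfsg.Agent.BS.BZ

set_option autoImplicit false
set_option linter.style.haveILetI false

namespace Cfsg.Agent.CI

open Subgroup MulAction Cfsg.Agent.H20 Cfsg.Agent.H21 Cfsg.Agent.BS.Bd Cfsg.Agent.BS

/-- Central Sylow intersections. -/
def CIG (G : Type*) [Group G] : Prop := ∀ S T : Sylow 2 G, S ≠ T → ∃ U : Sylow 2 G,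
  (S : Subgroup G) ⊓ (T : Subgroup G) ≤ (center ↥(U : Subgroup G)).map (U : Subgroup G).subtype

variable {G : Type*} [Group G] [Finite G] {S : Sylow 2 G}

theorem comm_all (h : IsMulCommutative (S : Subgroup G)) (T : Sylow 2 G) : IsMulCommutative (T : Subgroup G) := by
  obtain ⟨g, rfl⟩ := exists_smul_eq G S T
  refine comm_iff.2 fun a ha b hb => ?_
  have := comm_iff.1 h _ (H11.mem_sylow_smul.1 ha) _ (H11.mem_sylow_smul.1 hb)
  rw [← mul_left_inj g, mul_assoc, mul_assoc]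
  simpa [mul_assoc] using this

theorem CIG.zs (h : CIG G) (hS : ¬ IsMulCommutative (S : Subgroup G)) (T : Sylow 2 G) :
    Zs T ((T : Subgroup G) ⊓ C⟦(T : Subgroup G)⟧) := by
  refine ⟨inf_le_left, fun b hb => mem_cent.1 hb.2, fun x hx ⟨U, V, h1, h2, h3⟩ => ⟨hx, mem_cent.2 ?_⟩,
    fun x hx e => hS (comm_all (S := T) (comm_iff.2 fun a ha b hb => ?_) S)⟩
  · by_cases e : U = T
    · exact S3183.key h T _ V (e ▸ h1.symm) (Nat.le_add_right _ _) x ⟨hx, h3⟩
    · exact S3183.key h T _ U e (Nat.le_add_right _ _) x ⟨hx, h2⟩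
  · have h1 : (T : Subgroup G) ≤ C₁⟦x⟧ := e.trans (sup_le (zpowers_le.2 (mem_cent1.2 rfl))
      fun c hc => mem_cent1.2 (mem_cent.1 hc.2 x hx).symm)
    exact mem_cent.1 (e.trans (sup_le (zpowers_le.2 (le_cent1_iff.1 h1)) inf_le_right) hb) a ha

theorem psl_four {F : Type} [Field F] [Fintype F] (h : Fintype.card F = 4) :
    Nonempty (Matrix.ProjectiveSpecialLinearGroup (Fin 2) F ≃* Matrix.ProjectiveSpecialLinearGroup (Fin 2) (ZMod 5)) :=
  haveI := Fact.mk Nat.prime_five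
  let ⟨e⟩ := S0252.result h
  let ⟨f⟩ := S0253.result (F := ZMod 5) (ZMod.card 5)
  ⟨e.trans f.symm⟩

theorem CIG.bender [IsSimpleGroup G] (h : CIG G) (hG : ¬ IsMulCommutative G)
    (hS : ¬ IsMulCommutative (S : Subgroup G)) : H11.IsBender G := by
  have nt : ∀ N : Subgroup G, N.Normal → IsPGroup 2 N → N = ⊥ := fun N h1 h2 => (h1.eq_bot_or_eq_top).resolve_right fun e => by
    subst e
    haveI := (h2.of_equiv topEquiv).isNilpotent
    exact hG ⟨⟨IsSimpleGroup.comm_iff_isSolvable.2 inferInstance⟩⟩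
  have S1 : (S : Subgroup G) ≠ ⊥ := fun e => hS (e ▸ inferInstance)
  have ti := Hy.ti ⟨fun T => ⟨_, h.zs hS T⟩, fun R hR ho T => (hR.eq_bot_or_eq_top).elim (fun e => e ▸ bot_le) fun e =>
    absurd (eq_bot_iff.2 fun x hx => (el2 hx).eq_one (odd_ord ho (e ▸ mem_top x))) S1⟩
  refine isBender_of_se (H11.isStronglyEmbedded_of_normalizers_le (fun e => S1 (nt _ (normalizer_eq_top_iff.1 e) S.2))
    (H11.isSylIn_of_sylow_le S le_normalizer) S1 fun X hX X1 g hg => fix_iff.1 (by_contra fun e => X1 ?_))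
  refine eq_bot_iff.2 (nt (S : Subgroup G).normalCore inferInstance (S.2.to_le (normalCore_le _)) ▸ fun x hx k => ?_)
  have := ti S (g • S) (k⁻¹ • S) le_top le_top le_top (Ne.symm e) x (hX hx) (H11.mem_sylow_smul.2 (by
    have := hX (conj_mem_of_norm (inv_mem hg) hx); rwa [inv_inv] at this))
  have := H11.mem_sylow_smul.1 this
  rwa [inv_inv] at this

end Cfsg.Agent.CI
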