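/-
Groups with central Sylow 2-intersections: the structure of the subgroup generated by the Sylow subgroups.
-/
import Cfsg.Agent.CI.E
import Cfsg.Agent.H11.AbS
import Cfsg.Agent.H27.Schur

set_option autoImplicit false
set_option linter.style.haveILetI false

namespace Cfsg.Agent.CI

open Subgroup MulAction Cfsg.Agent.H20 Cfsg.Agent.H21 Cfsg.Agent.BS.Bd Cfsg.Agent.BS
open scoped MatrixGroups

universe u

theorem Hy.nu {G : Type u} [Group G] [Finite G] (h : Hy G) {S T : Sylow 2 G} (hne : S ≠ T) :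
    ¬ U1 (S : Subgroup G) ((S : Subgroup G) ⊓ T) := by
  induction hn : Nat.card G using Nat.strong_induction_on generalizing G with
  | _ n ih =>
  intro hU
  by_cases hC : C⟦Mx (⊤ : Subgroup G)⟧ = ⊥
  · obtain ⟨B, z⟩ := h.1 S
    obtain ⟨c, h3, h4, h5⟩ := z.inv (B' := (S : Subgroup G) ⊓ T) (fun b hb => z.tw b hb.1 ⟨S, T, hne, hb⟩) hU
    have hO : oddCore G = ⊥ := eq_bot_iff.2 fun c hc => hC ▸ mem_C0.2 fun T => h.2 _ inferInstance odd_oddCore' T hc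
    refine h4.1 (mem_bot.1 (hC ▸ mem_cent.2 fun g _ => ?_))
    have := z.iso h.1 h3 h4 h5 g
    rw [hO, mem_bot, mul_inv_eq_one, mul_inv_eq_iff_eq_mul] at this
    exact this.symm
  have hk := QuotientGroup.ker_mk' C⟦Mx (⊤ : Subgroup G)⟧
  have hf := QuotientGroup.mk'_surjective C⟦Mx (⊤ : Subgroup G)⟧
  refine ih _ (hn ▸ H1.card_quotient_lt hC) (h.map hf hk.le hk.ge hne) (S := S.mapSurjective hf)
    (T := T.mapSurjective hf) (fun h1 => hne (Sylow.ext ((S.3 T.2 fun y hy => mem_of_map hk.le (el2 hy) (by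
      rw [← Sylow.coe_mapSurjective hf, ← h1]; exact mem_map_of_mem _ hy)).symm))) rfl ?_
  rintro _ ⟨x, hx, rfl⟩ _ ⟨y, hy, rfl⟩ h1 h2 h3 h4 h5
  have key : ∀ w ∈ (S : Subgroup G), QuotientGroup.mk' C⟦Mx (⊤ : Subgroup G)⟧ w ∈
      (S.mapSurjective hf : Subgroup (G ⧸ C⟦Mx (⊤ : Subgroup G)⟧)) ⊓ T.mapSurjective hf ↔ w ∈ (S : Subgroup G) ⊓ T := fun w hw =>
    ⟨fun e => ⟨hw, mem_of_map hk.le (el2 hw) e.2⟩, fun e => ⟨mem_map_of_mem _ hw, mem_map_of_mem _ e.2⟩⟩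
  simp only [← map_mul] at h1 h2 h3 ⊢
  have xy := mul_mem hx hy
  exact (key _ xy).2 (hU x hx y hy ((key _ (mul_mem hx hx)).1 h1) ((key _ (mul_mem hy hy)).1 h2)
    ((key _ (mul_mem xy xy)).1 h3) (mt (key _ hx).2 h4) (mt (key _ hy).2 h5))

theorem psl2_sq {F : Type*} [Field F] [CharP F 2] {x : PSL(2, F)} (h : El2 x) : x * x = 1 := by
  obtain ⟨g, rfl⟩ := QuotientGroup.mk'_surjective _ x
  obtain ⟨n, hn⟩ := h
  have two : (2 : F) = 0 := CharP.cast_eq_zero F 2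
  have sq : ∀ g : SL(2, F), (g * g).1.trace = g.1.trace ^ 2 := fun g => by
    have := g.det_coe
    rw [Matrix.det_fin_two] at this
    simp only [Matrix.SpecialLinearGroup.coe_mul, Matrix.trace_fin_two, Matrix.mul_apply, Fin.sum_univ_two]
    linear_combination (g.1 0 1 * g.1 1 0 - g.1 0 0 * g.1 1 1) * two
  have h1 : ∀ n, (g ^ 2 ^ n).1.trace = g.1.trace ^ 2 ^ n := fun n => by
    induction n with
    | zero => simp
    | succ n ih => rw [pow_succ, pow_mul, pow_mul, pow_two, sq, ih]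
  obtain ⟨r, -, hr⟩ := Matrix.SpecialLinearGroup.mem_center_iff.1 ((QuotientGroup.eq_one_iff (g ^ 2 ^ n)).1 hn)
  have h2 := h1 n
  rw [← hr, Matrix.trace_fin_two] at h2
  simp only [Matrix.scalar_apply, Matrix.diagonal_apply_eq, CharTwo.add_self_eq_zero] at h2
  have h3 := eq_zero_of_pow_eq_zero h2.symm
  have h4 := g.det_coe
  rw [Matrix.trace_fin_two] at h3
  rw [Matrix.det_fin_two] at h4
  rw [← map_mul, show g * g = 1 from ?_, map_one]
  ext i j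
  fin_cases i <;> fin_cases j <;> simp [Matrix.mul_apply, Fin.sum_univ_two]
  · linear_combination g.1 0 0 * h3 - h4 - two
  · linear_combination g.1 0 1 * h3
  · linear_combination g.1 1 0 * h3
  · linear_combination g.1 1 1 * h3 - h4 - two

theorem five {V : Type*} [Group V] (h : ∀ v : V, v * v = 1) {a b x y z : V}
    (hc : ∀ c : V, c ∈ zpowers a ∨ b⁻¹ * c ∈ zpowers a)
    (e : ∀ w ∈ [x, y, z, y * z, x * y, x * z, x * (y * z)], w ≠ 1) : False := by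
  have cm : ∀ u v : V, u * v = v * u := fun u v => by
    rw [eq_inv_of_mul_eq_one_left (h (u * v)), mul_inv_rev, inv_eq_of_mul_eq_one_left (h u),
      inv_eq_of_mul_eq_one_left (h v)]
  have h1 : ∀ c ∈ zpowers a, c ≠ 1 → c = a := by
    rintro _ ⟨i, rfl⟩ e
    obtain ⟨j, rfl | rfl⟩ := Int.even_or_odd' i
    · exact absurd (by simp only [zpow_mul, zpow_two, h, one_zpow]) e
    · simp only [zpow_add, zpow_mul, zpow_two, h, one_zpow, one_mul, zpow_one]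
  have h2 : ∀ c ∈ zpowers a, ∀ d ∈ zpowers a, c ≠ 1 → d ≠ 1 → c * d = 1 := fun c hc d hd e f => by
    rw [h1 c hc e, h1 d hd f, h]
  have h3 : ∀ c d, c ∉ zpowers a → d ∉ zpowers a → c * d ∈ zpowers a := fun c d e f => by
    convert mul_mem ((hc c).resolve_left e) ((hc d).resolve_left f) using 1
    rw [cm _ c, mul_assoc, ← mul_assoc b⁻¹, h, one_mul]
  simp only [List.forall_mem_cons] at e
  obtain ⟨e1, e2, e3, e4, e5, e6, e7, -⟩ := e
  by_cases px : x ∈ zpowers a <;> by_cases py : y ∈ zpowers a <;> by_cases pz : z ∈ zpowers a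
  · exact e5 (h2 _ px _ py e1 e2)
  · exact e5 (h2 _ px _ py e1 e2)
  · exact e6 (h2 _ px _ pz e1 e3)
  · exact e7 (h2 _ px _ (h3 _ _ py pz) e1 e4)
  · exact e4 (h2 _ py _ pz e2 e3)
  · exact e7 (by rw [cm y, ← mul_assoc, h2 _ (h3 _ _ px pz) _ py e6 e2])
  · exact e7 (by rw [← mul_assoc, h2 _ (h3 _ _ px py) _ pz e5 e3])
  · exact e4 (by rw [← h2 _ (h3 _ _ px py) _ (h3 _ _ px pz) e5 e6, cm x, mul_assoc, ← mul_assoc x, h, one_mul])

theorem Pk.nu {G : Type*} [Group G] [Finite G] {S : Sylow 2 G} {B B' Z M : Subgroup G} {H Δ : Type*} [Group H]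
    [Finite H] [MulAction H Δ] {φ : M →* H} {ι : Δ → Sylow 2 G} {α : Δ} {t : H} {Q : Subgroup H} {r : H} {F : Type}
    [Field F] {τ : F → H} {κ : Fˣ →* H} (k : Pk M S B φ ι α t Q r τ κ) (hS : (S : Subgroup G) ≤ M) (z : Zs S Z)
    (hB : B' ≤ Z) (h : U1 S B') : ∀ x ∈ (S : Subgroup G), x * x ∈ B := fun x hx => by
  have R := k.r1
  refine by_contra fun h1 => ?_
  obtain ⟨a, ha, b, hb, -, h2⟩ := z.quat hB h
  haveI : ((Q0 τ).subgroupOf Q).Normal := ⟨fun y hy g => R.conj_mem_Q0 (R.hS.le g.2) hy⟩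
  let ψ : S →* Q ⧸ (Q0 τ).subgroupOf Q :=
    (QuotientGroup.mk' _).comp ((φ.comp (inclusion hS)).codRestrict Q fun s => k.mem _ s.2)
  have one : ∀ s : S, ψ s = 1 ↔ φ (inclusion hS s) ∈ Q0 τ := fun s => QuotientGroup.eq_one_iff _
  have surj : ∀ v, ∃ s, ψ s = v := fun v => by
    obtain ⟨⟨v, hv⟩, rfl⟩ := QuotientGroup.mk'_surjective _ v
    obtain ⟨s, h3, rfl⟩ := k.lift v hv
    exact ⟨⟨s, h3⟩, rfl⟩
  have pull : ∀ c : S, (c : G) ∈ zpowers a ⊔ B' → ψ c ∈ zpowers (ψ ⟨a, ha⟩) := fun c hc => by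
    obtain ⟨i, β, h3, e⟩ := (z.mem_sup hB ha).1 hc
    have h4 := z.le (hB h3)
    obtain rfl : ⟨a, ha⟩ ^ i * ⟨β, h4⟩ = c := Subtype.ext e
    rw [map_mul, map_zpow, (one ⟨β, h4⟩).2 (R.mem_Q0'.2 ⟨k.mem _ h4, R.zen (k.mem _ h4) fun y hy => ?_⟩), mul_one]
    · exact zpow_mem_zpowers _ i
    obtain ⟨y, h5, rfl⟩ := k.lift y hy
    rw [← map_mul, ← map_mul]
    exact congrArg φ (Subtype.ext (z.cen β (hB h3) y h5).symm)
  obtain ⟨y, hy, w, hw, e⟩ := R.three k.top (k.mem ⟨x, hS hx⟩ hx)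
  obtain ⟨y, h3, rfl⟩ := k.lift y hy
  obtain ⟨w, h4, rfl⟩ := k.lift w hw
  have n0 : φ ⟨x, hS hx⟩ ∉ Q0 τ := fun e => h1 ((k.ker (⟨x, hS hx⟩ * ⟨x, hS hx⟩) (mul_mem hx hx)).1
    ((map_mul _ _ _).trans (R.mem_Q0'.1 e).2))
  have key : ∀ s : S, Sim α (Q0 τ) (φ ⟨x, hS hx⟩) (φ (inclusion hS s)) → ψ s ≠ 1 := fun s ⟨d, h5, h6⟩ h7 => n0 (by
    rw [mul_mem_cancel_right ((one s).1 h7), inv_mem_iff] at h6
    simpa [mul_assoc] using R.conj_mem_Q0 (inv_smul_eq_iff.2 h5.symm) h6)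
  simp only [List.forall_mem_cons, ← map_mul] at e
  obtain ⟨e1, e2, e3, e4, e5, e6, -⟩ := e
  refine five (a := ψ ⟨a, ha⟩) (b := ψ ⟨b, hb⟩) (x := ψ ⟨x, hx⟩) (y := ψ ⟨y, h3⟩) (z := ψ ⟨w, h4⟩) (fun v => ?_)
    (fun c => ?_) ?_
  · obtain ⟨s, rfl⟩ := surj v
    rw [← map_mul, one, map_mul, map_mul]
    exact R.sq_mem (k.mem _ s.2)
  · obtain ⟨s, rfl⟩ := surj c
    rw [← map_inv, ← map_mul]
    exact (h2 s s.2).imp (pull s) (pull _)
  · simp only [List.forall_mem_cons, ← map_mul]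
    exact ⟨mt (one _).1 n0, key _ e1, key _ e2, key _ e3, key _ e4, key _ e5, key _ e6, by simp⟩

/-- The subgroup generated by all Sylow 2-subgroups. -/
abbrev MM (G : Type*) [Group G] : Subgroup G := Mx ⊤

/-- The structure of the subgroup generated by the Sylow 2-subgroups. -/
theorem Hy.str {G : Type u} [Group G] [Finite G] (h : Hy G) {S T : Sylow 2 G} (hne : S ≠ T) :
    ∃ (L : Subgroup G) (H : Type u) (_ : Group H) (σ : L →* H), IsStemExtension σ ∧ H11.IsBender H ∧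
      σ.ker = center L ∧ Group.IsPerfect L ∧ ((S : Subgroup G) ⊓ T) ⊔ L = MM G ∧ MM G ≤ C⟦(S : Subgroup G) ⊓ T⟧ ∧
      ((∀ x ∈ (S : Subgroup G), x * x ∈ (T : Subgroup G)) ↔ ∃ (F : Type) (_ : Field F) (_ : Fintype F),
        (∃ n : ℕ, 2 ≤ n ∧ Fintype.card F = 2 ^ n) ∧ Nonempty (H ≃* PSL(2, F))) ∧
      ∀ Z, Zs S Z → ∀ B' ≤ Z, U1 S B' → ∀ x ∈ (S : Subgroup G), x * x ∈ (T : Subgroup G) := by
  obtain ⟨H, Δ, _, _, _, φ, ι, α, t, Q, r, F, _, τ, κ, k⟩ := exists_pk h.ti le_top le_top hne (h.nu hne)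
  have hS : (S : Subgroup G) ≤ MM G := le_Mx le_top
  have hc : MM G ≤ C⟦(S : Subgroup G) ⊓ T⟧ := iSup_le fun W => le_cent_iff.2 fun w hw c hc =>
    let ⟨B, z⟩ := h.1 W
    z.cen c (z.tw c (h.ti S T W le_top le_top le_top hne c hc.1 hc.2) ⟨S, T, hne, hc⟩) w hw
  let e : H ≃* L0 t := topEquiv.symm.trans (MulEquiv.subgroupCongr k.top.symm)
  have hB := k.r1.isBender_L0.of_equiv e
  haveI := k.r1.simple_L0
  haveI := e.isSimpleGroup
  have nc : ¬ IsMulCommutative H := fun hH => one_ne_zero (k.r1.inj ((mem_bot.1 (k.r1.hS.inf_eq_bot ▸ mem_inf.2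
    ⟨k.r1.tau_mem 1, by rw [mem_stabilizer_iff, ← mul_smul, hH.1.1, mul_smul, k.r1.hS.le (k.r1.tau_mem 1)]⟩)).trans
      k.r1.tau_zero.symm))
  have kY : ∀ x : MM G, φ x = 1 ↔ (x : G) ∈ MM G ⊓ (toPermHom G (Sylow 2 G)).ker := fun x => by
    rw [k.bar.eq_one_iff]
    exact ⟨fun e => ⟨e.1, Equiv.ext fun U => e.2 U (exists_smul hS (le_Mx le_top))⟩,
      fun e => ⟨e.1, fun U _ => DFunLike.congr_fun (MonoidHom.mem_ker.1 e.2) U⟩⟩
  obtain ⟨E, h1, h2, h3⟩ := exists_odd_compl (S := S) (Y := MM G ⊓ (toPermHom G (Sylow 2 G)).ker) fun o ho y hy =>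
    (mem_cent.1 (hc hy.1) o ((k.ker ⟨o, ho.1.1⟩ ho.2).1 ((kY _).2 ho.1))).symm
  have dec : ∀ x : MM G, φ x = 1 → ∃ o ∈ (S : Subgroup G) ⊓ T, ∃ e ∈ E, o * e = x := fun x hx =>
    let ⟨o, ho, e, he, h4⟩ := Compl.prod h3 x ((kY x).1 hx)
    ⟨o, (k.ker ⟨o, ho.1.1⟩ ho.2).1 ((kY _).2 ho.1), e, he, h4⟩
  have EM : E ≤ C⟦MM G⟧ := fun e he => mem_C0.2 fun U => h.2 E h1 h2 U he
  have zk : φ.ker ≤ center (MM G) := fun x hx => mem_center_iff.2 fun y => Subtype.ext (by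
    obtain ⟨o, ho, e, he, h4⟩ := dec x hx
    exact mem_cent.1 (h4 ▸ mul_mem (le_centralizer_iff.1 hc ho) (EM he) : (x : G) ∈ C⟦MM G⟧) y y.2)
  have hp : commutator H = ⊤ := (Normal.eq_bot_or_eq_top inferInstance).resolve_left fun e => nc
    ⟨⟨fun a b => commutatorElement_eq_one_iff_mul_comm.1 (mem_bot.1 (e ▸ commutator_mem_commutator trivial trivial))⟩⟩
  have su : ∀ g : MM G, ∃ l ∈ commutator (MM G), φ l = φ g := fun g => by
    have : φ g ∈ (commutator (MM G)).map φ := by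
      rw [map_commutator_eq, MonoidHom.range_eq_top.2 k.bar.surj, ← _root_.commutator_def, hp]; trivial
    exact this
  have LM : ⁅MM G, MM G⁆ ≤ MM G := commg_le_of_le le_rfl le_rfl
  have mL : ∀ l : MM G, l ∈ commutator (MM G) → (l : G) ∈ ⁅MM G, MM G⁆ := fun l hl => map_subtype_commutator (MM G) ▸ mem_map_of_mem _ hl
  have pf : Group.IsPerfect ↥⁅MM G, MM G⁆ := isPerfect_iff.2 (le_antisymm (commg_le_of_le le_rfl le_rfl) (by
    rw [← map_subtype_commutator, ← map_commutator]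
    exact map_mono (H27.commutator_le_of_map_top zk su)))
  have zL : (φ.comp (inclusion LM)).ker ≤ center _ := fun x hx => mem_center_iff.2 fun y =>
    Subtype.ext (congrArg Subtype.val (mem_center_iff.1 (zk hx) (inclusion LM y)) :)
  have sσ : Function.Surjective (φ.comp (inclusion LM)) := fun v => by
    obtain ⟨g, rfl⟩ := k.bar.surj v
    obtain ⟨l, h4, h5⟩ := su g
    exact ⟨⟨l, mL l h4⟩, h5⟩
  refine ⟨⁅MM G, MM G⁆, H, _, φ.comp (inclusion LM), ⟨sσ, zL, by simp⟩, hB, le_antisymm zL fun x hx => ?_, pf,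
    le_antisymm (sup_le (inf_le_left.trans hS) LM) (iSup_le fun U u hu => ?_), hc, ⟨fun h4 => ?_, ?_⟩,
    fun Z z B' h4 h5 x hx => (k.nu hS z h4 h5 x hx).2⟩
  · refine mem_bot.1 (((Normal.eq_bot_or_eq_top (Hn := (inferInstance : (center H).Normal))).resolve_right
      fun e => nc ⟨⟨fun a b => mem_center_iff.1 (e.ge (mem_top b)) a⟩⟩).le (mem_center_iff.2 fun v => ?_))
    obtain ⟨y, rfl⟩ := sσ v
    rw [← map_mul, ← map_mul, mem_center_iff.1 hx y]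
  · obtain ⟨l, h4, h5⟩ := su ⟨u, le_Mx le_top hu⟩
    obtain ⟨o, ho, e, he, h6⟩ := dec (l⁻¹ * ⟨u, le_Mx le_top hu⟩) (by rw [map_mul, map_inv, h5, inv_mul_cancel])
    refine (el2 hu).mem_of_pow h2 ?_
    rw [show u = l * o * e by rw [mul_assoc, h6]; simp, Commute.mul_pow (mem_cent.1 (EM he) _
      (mul_mem l.2 (hS ho.1))), orderOf_dvd_iff_pow_eq_one.1 (orderOf_dvd_card_of_mem he), mul_one]
    exact pow_mem (mul_mem (mem_sup_right (mL l h4)) (mem_sup_left ho)) _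
  · obtain ⟨P, hP⟩ := k.r1.exists_sylow
    have h5 : ∀ v ∈ Q, v * v = 1 := fun v hv => by
      obtain ⟨x, hx, rfl⟩ := k.lift v hv
      exact (map_mul _ _ _).symm.trans ((k.ker _ (mul_mem hx hx)).2 ⟨mul_mem hx hx, h4 x hx⟩)
    refine hB.psl2_of_comm P (hP ▸ comm_iff.2 fun a ha b hb => ?_)
    rw [eq_inv_of_mul_eq_one_left (h5 _ (mul_mem ha hb)), mul_inv_rev, inv_eq_of_mul_eq_one_left (h5 a ha),
      inv_eq_of_mul_eq_one_left (h5 b hb)]
  · rintro ⟨F', _, _, ⟨n, -, h4⟩, ⟨f⟩⟩ x hx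
    haveI := H11.charP_two_of_card h4
    refine ((k.ker (⟨x, hS hx⟩ * ⟨x, hS hx⟩) (mul_mem hx hx)).1 (f.injective ?_)).2
    rw [map_mul, map_mul, map_one]
    exact psl2_sq (((SH.el2_coe.1 (el2 hx)).map φ).map f.toMonoidHom)

end Cfsg.Agent.CI
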