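/-
Groups with central Sylow 2-intersections: the general case.
-/
import Cfsg.Agent.CI.F
import Cfsg.Agent.S2086
import Cfsg.Agent.S2089
import Cfsg.Agent.S2111
import Cfsg.Agent.S3974

set_option autoImplicit false
set_option linter.style.haveILetI false

namespace Cfsg.Agent.CI

open Subgroup MulAction Cfsg.Agent.H20 Cfsg.Agent.H21 Cfsg.Agent.BS.Bd Cfsg.Agent.BS
open scoped MatrixGroups

section schur
variable {L : Type*} [Group L] [Finite L]

theorem stem_dvd {Q : Type} [Group Q] {σ : L →* Q} (hσ : IsStemExtension σ) {n : ℕ}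
    (h : HasCyclicSchurMultiplier Q n) : ♯σ.ker ∣ n := by
  obtain ⟨Γ, _, _, ⟨e⟩⟩ := H27.exists_small_equiv.{_, 0} L
  obtain ⟨π, hπ⟩ := h.2 Γ _ (H27.stem_comp_equiv hσ e)
  rw [← Nat.card_congr (H27.kerCompEquiv σ e).toEquiv]
  exact (card_dvd_of_surjective π hπ).trans (Nat.card_zmod n).dvd

theorem stem_or {P : Type} [Group P] [Finite P] (hP : commutator P = ⊤) {n : ℕ} (hn : n = 1 ∨ n.Prime)
    (hc : ♯(center P) = n) (h : HasCyclicSchurMultiplier (P ⧸ center P) n) {σ : L →* P ⧸ center P}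
    (hσ : IsStemExtension σ) : σ.ker = ⊥ ∨ Nonempty (L ≃* P) := by
  have h1 := stem_dvd hσ h
  refine or_iff_not_imp_left.2 fun h2 => ?_
  replace h2 := mt card_eq_one.1 h2
  replace hn := hn.resolve_left fun e => h2 (Nat.dvd_one.1 (e ▸ h1))
  haveI := Fact.mk hn
  obtain ⟨Γ, _, _, ⟨e⟩⟩ := H27.exists_small_equiv.{_, 0} L
  haveI : Group.IsPerfect P := ⟨hP⟩
  haveI := Group.IsPerfect.ofSurjective (QuotientGroup.mk'_surjective (center P))
  obtain ⟨f, -⟩ := (S3974.result h).2 (by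
      rw [show Nat.card (Abelianization (P ⧸ center P)) = 1 from index_eq_one.2 Group.IsPerfect.commutator_eq_top]
      exact Nat.coprime_one_left _)
    Γ P _ (QuotientGroup.mk' _) (H27.stem_comp_equiv hσ e) ⟨QuotientGroup.mk'_surjective _,
      (QuotientGroup.ker_mk' _).le, by simp⟩ ⟨mulEquivOfPrimeCardEq (p := n) (by
        rw [Nat.card_congr (H27.kerCompEquiv σ e).toEquiv, ((Nat.dvd_prime hn).1 h1).resolve_left h2]) (Nat.card_zmod n)⟩
      ⟨mulEquivOfPrimeCardEq (p := n) (by rw [QuotientGroup.ker_mk', hc]) (Nat.card_zmod n)⟩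
  exact ⟨e.symm.trans f⟩

theorem iso_of_stem {Q : Type*} [Group Q] {σ : L →* Q} (hσ : IsStemExtension σ) (h : σ.ker = ⊥) : Nonempty (L ≃* Q) :=
  ⟨MulEquiv.ofBijective σ ⟨(MonoidHom.ker_eq_bot_iff σ).1 h, hσ.1⟩⟩

theorem ker_equiv_comp {Q Q' : Type*} [Group Q] [Group Q'] (σ : L →* Q) (e : Q ≃* Q') :
    (e.toMonoidHom.comp σ).ker = σ.ker := Subgroup.ext fun x => by simp

end schur

variable {G G' : Type*} [Group G] [Finite G] [Group G'] [Finite G'] {f : G →* G'} {S T : Sylow 2 G} {B : Subgroup G}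

theorem exists_lift_syl (hf : Function.Surjective f) {x : G} (h2 : El2 x) {P : Sylow 2 G'}
    (h : f x ∈ (P : Subgroup G')) : ∃ U : Sylow 2 G, U.mapSurjective hf = P ∧ x ∈ (U : Subgroup G) := by
  obtain ⟨U, hU⟩ := h2.isPGroup.exists_le_sylow
  obtain ⟨V, rfl⟩ := Sylow.mapSurjective_surjective hf 2 P
  obtain ⟨g, hg, e⟩ := exists_syl (S := V) (X := ((V : Subgroup G).map f).comap f) (le_comap_map _ _) h h2
  refine ⟨_, Sylow.ext ((Sylow.mapSurjective hf (g • V)).3 (V.mapSurjective hf).2 ?_).symm, e⟩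
  rintro _ ⟨y, hy, rfl⟩
  exact smul_le (le_comap_map f _) hg hy

theorem Zs.map (hf : Function.Surjective f) (z : Zs S B) (hk : ∀ x ∈ (S : Subgroup G), f x = 1 → x ∈ B) :
    Zs (S.mapSurjective hf) (B.map f) := by
  refine ⟨map_mono z.le, ?_, ?_, ?_⟩
  · rintro _ ⟨b, hb, rfl⟩ _ ⟨s, hs, rfl⟩
    rw [← map_mul, z.cen b hb s hs, map_mul]
  · rintro _ ⟨x, hx, rfl⟩ ⟨P, Q, h1, h2, h3⟩
    obtain ⟨P, rfl, h4⟩ := exists_lift_syl hf (el2 hx) h2
    obtain ⟨Q, rfl, h5⟩ := exists_lift_syl hf (el2 hx) h3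
    exact mem_map_of_mem f (z.tw x hx ⟨P, Q, fun e => h1 (e ▸ rfl), h4, h5⟩)
  · rintro _ ⟨x, hx, rfl⟩ e
    refine z.nc x hx fun s hs => ?_
    obtain ⟨y, hy, e⟩ : f s ∈ (zpowers x ⊔ B).map f := by
      rw [Subgroup.map_sup, MonoidHom.map_zpowers]; exact e (mem_map_of_mem f hs)
    have h1 := mul_mem (inv_mem (sup_le (zpowers_le.2 hx) z.le hy)) hs
    simpa using mul_mem hy (mem_sup_right (hk _ h1 (by simp [e])))

omit [Finite G] [Finite G'] in
theorem U1.map {S : Subgroup G} (h : U1 S B) (hB : B ≤ S) (hk : ∀ x ∈ S, f x = 1 → x = 1) : U1 (S.map f) (B.map f) := by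
  have key : ∀ x ∈ S, f x ∈ B.map f → x ∈ B := fun x hx ⟨b, hb, e⟩ =>
    inv_mul_eq_one.1 (hk _ (mul_mem (inv_mem (hB hb)) hx) (by simp [e])) ▸ hb
  rintro _ ⟨x, hx, rfl⟩ _ ⟨y, hy, rfl⟩ h1 h2 h3 h4 h5
  simp only [← map_mul] at h1 h2 h3 ⊢
  have xy := mul_mem hx hy
  exact mem_map_of_mem f (h x hx y hy (key _ (mul_mem hx hx) h1) (key _ (mul_mem hy hy) h2) (key _ (mul_mem xy xy) h3)
    (mt (mem_map_of_mem f) h4) (mt (mem_map_of_mem f) h5))

theorem odd_index_of_le {X : Subgroup G} (h : (S : Subgroup G) ≤ X) : Odd X.index :=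
  Nat.odd_iff.2 (Nat.two_dvd_ne_zero.1 fun e => S.not_dvd_index (e.trans (index_dvd_of_le h)))

/-- The case of the linear groups. -/
theorem Hy.lin (h : Hy G) (hne : S ≠ T) (hS : ¬ IsMulCommutative (S : Subgroup G))
    (el : ∀ x ∈ (S : Subgroup G), x * x ∈ (T : Subgroup G)) :
    ∃ L : Subgroup G, Nonempty (L ≃* SL(2, ZMod 5)) ∧ ((S : Subgroup G) ⊓ T) ⊔ L = MM G ∧
      MM G ≤ C⟦(S : Subgroup G) ⊓ T⟧ := by
  obtain ⟨L, H, _, σ, h1, -, h2, -, h3, h4, h5, -⟩ := h.str hne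
  obtain ⟨F, _, _, ⟨n, hn, hF⟩, ⟨e⟩⟩ := h5.1 el
  have LM : L ≤ MM G := h3 ▸ le_sup_right
  have nb : σ.ker ≠ ⊥ := fun h6 => hS (comm_iff.2 fun a ha b hb => by
    have sq : ∀ l ∈ L, l ∈ (S : Subgroup G) → l * l = 1 := fun l hl hs => congrArg Subtype.val (mem_bot.1
      (h6 ▸ h2 ▸ mem_center_iff.2 fun y => Subtype.ext (mem_cent.1 (h4 (LM y.2)) _ ⟨mul_mem hs hs, el l hs⟩).symm :
        (⟨l, hl⟩ * ⟨l, hl⟩ : L) ∈ ⊥))
    have dec : ∀ s ∈ (S : Subgroup G), ∃ o ∈ (S : Subgroup G) ⊓ T, ∃ l ∈ L, l ∈ (S : Subgroup G) ∧ o * l = s :=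
      fun s hs => by
      obtain ⟨o, ho, l, hl, e⟩ := (mem_sup_of_norm (norm_of_cent (le_centralizer_iff.1 (LM.trans h4)))).1
        (h3.ge (le_Mx le_top hs))
      exact ⟨o, ho, l, hl, ((S : Subgroup G).mul_mem_cancel_left ho.1).1 (e ▸ hs), e⟩
    obtain ⟨o, ho, l, h7, h8, rfl⟩ := dec a ha
    obtain ⟨o', ho', l', h7', h8', rfl⟩ := dec b hb
    have : l * l' = l' * l := by
      rw [eq_inv_of_mul_eq_one_left (sq _ (mul_mem h7 h7') (mul_mem h8 h8')), mul_inv_rev,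
        inv_eq_of_mul_eq_one_left (sq l h7 h8), inv_eq_of_mul_eq_one_left (sq l' h7' h8')]
    rw [mul_assoc o, mem_cent.1 (h4 (le_Mx le_top (mul_mem h8 hb))) o ho, ← mul_assoc l,
      ← mem_cent.1 (h4 (le_Mx le_top h8)) o' ho', mul_assoc o', this, mul_assoc, mul_assoc,
      ← mem_cent.1 (h4 (le_Mx le_top h8)) o ho, mul_assoc])
  refine ⟨L, ?_, h3, h4⟩
  rcases hn.eq_or_lt with rfl | hn
  · haveI := Fact.mk Nat.prime_five
    obtain ⟨e'⟩ := psl_four hF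
    exact (stem_or (H12.commutator_SL_fin_eq_top 2 le_rfl (by simp)) (Or.inr Nat.prime_two)
      (by rw [H12.card_center_SL]; simp) (S2086.result (ZMod.card 5) 2 le_rfl (by simp) (by simp))
      (H27.stem_equiv_comp h1 (e.trans e'))).resolve_left fun e => nb ((ker_equiv_comp σ _).symm.trans e)
  have h6 : 8 ≤ 2 ^ n := Nat.pow_le_pow_right (n := 2) two_pos hn
  have h7 : 2 ∣ 2 ^ n := dvd_pow_self 2 (by omega)
  have h8 := stem_dvd (H27.stem_equiv_comp h1 e) (S2086.result hF 2 le_rfl (by omega) (by simp; omega))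
  rw [ker_equiv_comp, show Nat.gcd 2 (2 ^ n - 1) = 1 from Nat.coprime_two_left.2 (Nat.odd_iff.2 (by omega))] at h8
  exact absurd (card_eq_one.1 (Nat.dvd_one.1 h8)) nb

/-- The Suzuki and unitary cases. -/
theorem Hy.nonlin (h : Hy G) (hne : S ≠ T) (el : ¬ ∀ x ∈ (S : Subgroup G), x * x ∈ (T : Subgroup G)) :
    ∃ A L : Subgroup G, IsMulCommutative A ∧ IsPGroup 2 A ∧
      ((IsInternalDirectProduct A L (MM G) ∧
          ((∃ (m : ℕ) (F : Type) (_ : Field F) (_ : Fintype F), 1 ≤ m ∧ Fintype.card F = 2 ^ (2 * m + 1) ∧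
              Nonempty (L ≃* Lie.Sz F (2 ^ (m + 1)))) ∨
            (∃ (n : ℕ) (F : Type) (_ : Field F) (_ : Fintype F), 2 ≤ n ∧ Fintype.card F = 4 ^ n ∧
              (Nonempty (L ≃* PSU 3 F (2 ^ n)) ∨ Nonempty (L ≃* SU 3 F (2 ^ n)))))) ∨
        (A ≤ MM G ∧ L ≤ MM G ∧ (∀ a ∈ A, ∀ l ∈ L, a * l = l * a) ∧ A ⊔ L = MM G ∧ Group.IsPerfect L ∧
          center L ≠ ⊥ ∧ ∃ (F : Type) (_ : Field F) (_ : Fintype F), Fintype.card F = 8 ∧
            Nonempty (L ⧸ center L ≃* Lie.Sz F 4))) := by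
  obtain ⟨L, H, _, σ, h1, hB, h2, hp, h3, h4, h5, -⟩ := h.str hne
  have LM : L ≤ MM G := h3 ▸ le_sup_right
  have AM : (S : Subgroup G) ⊓ T ≤ MM G := h3 ▸ le_sup_left
  have cm : ∀ a ∈ (S : Subgroup G) ⊓ T, ∀ l ∈ L, a * l = l * a := fun a ha l hl => mem_cent.1 (h4 (LM hl)) a ha
  have dp : Odd ♯σ.ker → IsInternalDirectProduct ((S : Subgroup G) ⊓ T) L (MM G) := fun ho =>
    ⟨AM, LM, cm, eq_bot_iff.2 fun x hx => congrArg Subtype.val ((SH.el2_coe.1 (el2 hx.1.1)).eq_one (odd_ord ho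
      (show (⟨x, hx.2⟩ : L) ∈ σ.ker from h2 ▸ mem_center_iff.2 fun y => Subtype.ext (cm x hx.1 y y.2).symm))), h3⟩
  refine ⟨S ⊓ T, L, comm_iff.2 fun a ha b hb => mem_cent.1 (h4 (AM hb)) a ha, S.2.to_le inf_le_left, ?_⟩
  rcases hB with hB | ⟨F, _, _, m, hm, hF, ⟨e⟩⟩ | ⟨F, _, _, n, hn, hF, ⟨e⟩⟩
  · exact absurd (h5.2 hB) el
  · by_cases h6 : σ.ker = ⊥
    · obtain ⟨e'⟩ := iso_of_stem h1 h6
      exact Or.inl ⟨dp (by simp [h6]), Or.inl ⟨m, F, _, _, hm, hF, ⟨e'.trans e⟩⟩⟩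
    rcases hm.eq_or_lt with rfl | hm
    · exact Or.inr ⟨AM, LM, cm, h3, hp, h2 ▸ h6, F, _, _, hF, ⟨(QuotientGroup.quotientMulEquivOfEq h2.symm).trans
        ((QuotientGroup.quotientKerEquivOfSurjective σ h1.1).trans e)⟩⟩
    have h8 := stem_dvd (H27.stem_equiv_comp h1 e) (S2111.result hm hF)
    rw [ker_equiv_comp] at h8
    exact absurd (card_eq_one.1 (Nat.dvd_one.1 h8)) h6
  · have h6 : 4 ≤ 2 ^ n := Nat.pow_le_pow_right (n := 2) two_pos hn
    have h7 := S2089.result 3 (2 ^ n) hF le_rfl (by omega) (by simp)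
    have h8 := (stem_dvd (H27.stem_equiv_comp h1 e) h7).trans (Nat.gcd_dvd_left _ _)
    rw [ker_equiv_comp] at h8
    refine Or.inl ⟨dp (Odd.of_dvd_nat (by decide) h8), Or.inr ⟨n, F, _, _, hn, by rw [hF, ← pow_mul, mul_comm, pow_mul]; rfl,
      (stem_or (H12.commutator_SU hF le_rfl (by omega)) (((Nat.dvd_prime Nat.prime_three).1 (Nat.gcd_dvd_left _ _)).imp_right
        fun e => e.symm ▸ Nat.prime_three) (H12.card_center_SU hF (by omega)) h7 (H27.stem_equiv_comp h1 e)).imp_left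
          (iso_of_stem (H27.stem_equiv_comp h1 e))⟩⟩

theorem sol_case (h : ∀ T : Sylow 2 G, S.mapSurjective (QuotientGroup.mk'_surjective (oddCore G)) =
    T.mapSurjective (QuotientGroup.mk'_surjective (oddCore G))) : Group.IsSolvable G ∧ PLengthLE 2 1 G := by
  set P := S.mapSurjective (QuotientGroup.mk'_surjective (oddCore G))
  haveI : (P : Subgroup (G ⧸ oddCore G)).Normal := normalizer_eq_top_iff.1 (eq_top_iff.2 fun g _ => fix_iff.1 (by
    obtain ⟨T, e⟩ := Sylow.mapSurjective_surjective (QuotientGroup.mk'_surjective (oddCore G)) 2 (g • P)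
    rw [← e, ← h T]))
  refine ⟨?_, pLengthLE_one_iff.2 (odd_index_of_le (S := S) (map_le_iff_le_comap.1 (H1.le_pCore (N := (P : Subgroup (G ⧸ oddCore G))) P.2))).not_two_dvd_nat⟩
  haveI := sol_of_odd (odd_oddCore' (G := G))
  haveI := P.2.isNilpotent
  haveI := FT.solvable_of_odd (G := (G ⧸ oddCore G) ⧸ (P : Subgroup _)) (odd_index_of_le (S := P) le_rfl)
  haveI : Group.IsSolvable (G ⧸ oddCore G) := Group.isSolvable_of_ker_le_range (P : Subgroup _).subtype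
    (QuotientGroup.mk' (P : Subgroup _)) (by simp)
  exact Group.isSolvable_of_ker_le_range (oddCore G).subtype (QuotientGroup.mk' (oddCore G)) (by simp)

theorem CIG.hy_quot (h : CIG G) (hS : ¬ IsMulCommutative (S : Subgroup G)) : Hy (G ⧸ oddCore G) := by
  refine ⟨fun P => ?_, fun R hR ho P => (H1.le_pPrimeCore (Nat.coprime_two_right.2 ho)).trans (oddCore_quot.le.trans bot_le)⟩
  obtain ⟨T, rfl⟩ := Sylow.mapSurjective_surjective (QuotientGroup.mk'_surjective (oddCore G)) 2 P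
  exact ⟨_, (h.zs hS T).map _ fun x hx e => (el2 hx).eq_one (odd_ord odd_oddCore'
    ((QuotientGroup.eq_one_iff x).1 e)) ▸ one_mem _⟩

theorem CIG.hy (h : CIG G) (hS : ¬ IsMulCommutative (S : Subgroup G)) {P : Sylow 2 (G ⧸ oddCore G)}
    (hne : S.mapSurjective (QuotientGroup.mk'_surjective (oddCore G)) ≠ P)
    (el : ¬ ∀ x ∈ (S : Subgroup G).map (QuotientGroup.mk' (oddCore G)), x * x ∈ (P : Subgroup _)) : Hy G := by
  have hk : ∀ x ∈ (S : Subgroup G), QuotientGroup.mk' (oddCore G) x = 1 → x = 1 := fun x hx e =>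
    (el2 hx).eq_one (odd_ord odd_oddCore' ((QuotientGroup.eq_one_iff x).1 e))
  refine ⟨fun T => ⟨_, h.zs hS T⟩, fun R hR ho T r hr => ?_⟩
  obtain ⟨g, rfl⟩ := exists_smul_eq G S T
  obtain ⟨-, -, _, -, -, -, -, -, -, -, -, h1⟩ := (h.hy_quot hS).str hne
  have h2 := ((h.zs hS S).odd ho le_normalizer_of_normal).resolve_right fun ⟨B', h3, h4⟩ => el
    (h1 _ ((h.zs hS S).map _ fun x hx e => hk x hx e ▸ one_mem _) _ (map_mono h3) (h4.map (h3.trans inf_le_left) hk))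
  refine mem_cent.2 fun s hs => ?_
  have := mem_cent.1 (h2 (hR.conj_mem' r hr g)) _ (H11.mem_sylow_smul.1 hs)
  rw [← mul_left_inj g, mul_assoc, mul_assoc]
  simpa [mul_assoc] using this

/-- Passing back from `G / O(G)`. -/
theorem pull_back {N : Subgroup G} [N.Normal] {M A L : Subgroup (G ⧸ N)} {P : Type*} [Group P] (e : L ≃* P)
    (h2 : IsPGroup 2 A) (h3 : A ⊔ L = M) (h4 : M ≤ C⟦A⟧) :
    ∃ A L : Subgroup (M.comap (QuotientGroup.mk' N) ⧸ N.subgroupOf (M.comap (QuotientGroup.mk' N))),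
      IsMulCommutative A ∧ IsPGroup 2 A ∧ Nonempty (L ≃* P) ∧ (∀ a ∈ A, ∀ l ∈ L, a * l = l * a) ∧ A ⊔ L = ⊤ := by
  have hs := (QuotientGroup.mk' N).subgroupComap_surjective_of_surjective M (QuotientGroup.mk'_surjective N)
  let θ := (QuotientGroup.quotientMulEquivOfEq (show N.subgroupOf (M.comap (QuotientGroup.mk' N)) = _ from
    Subgroup.ext fun x => ⟨fun e => Subtype.ext ((QuotientGroup.eq_one_iff (x : G)).2 e),
      fun e => (QuotientGroup.eq_one_iff (x : G)).1 (congrArg Subtype.val e)⟩)).trans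
      (QuotientGroup.quotientKerEquivOfSurjective _ hs)
  have cm : ∀ a l, (θ a : G ⧸ N) ∈ A → a * l = l * a := fun a l ha => θ.injective (Subtype.ext (by
    simpa using mem_cent.1 (h4 (θ l).2) _ ha))
  refine ⟨(A.subgroupOf M).comap θ.toMonoidHom, (L.subgroupOf M).comap θ.toMonoidHom,
    comm_iff.2 fun a ha b _ => cm a b ha, h2.comap_subtype.comap_of_injective _ θ.injective,
    ⟨?_⟩, fun a ha l _ => cm a l ha, ?_⟩
  · exact ((θ.subgroupMap _).trans (MulEquiv.subgroupCongr (map_comap_eq_self_of_surjective θ.surjective _))).trans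
      ((subgroupOfEquivOfLe (h3 ▸ le_sup_right)).trans e)
  · rw [comap_sup_eq _ _ _ θ.surjective, ← subgroupOf_sup (h3 ▸ le_sup_left) (h3 ▸ le_sup_right), h3,
      subgroupOf_self, comap_top]

end Cfsg.Agent.CI
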