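/-
Simple groups with small central Sylow 2-intersections.
-/
import Cfsg.Agent.CI.E
import Cfsg.Agent.JR.Ord
import Cfsg.Agent.GO.Main

set_option autoImplicit false
set_option linter.style.haveILetI false

namespace Cfsg.Agent.CI

open Subgroup MulAction Cfsg.Agent.H20 Cfsg.Agent.H21 Cfsg.Agent.BS.Bd Cfsg.Agent.BS
open scoped MatrixGroups

variable {G : Type*} [Group G] [Finite G]

/-- A four-group which contains an involution central in `S` lies in no other Sylow subgroup. -/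
def U4 (G : Type*) [Group G] : Prop := ∀ S T : Sylow 2 G, ∀ x ∈ (S : Subgroup G) ⊓ T, ∀ y ∈ (S : Subgroup G) ⊓ T,
  Iv x → Iv y → x ≠ y → (∀ s ∈ (S : Subgroup G), s * x = x * s) → S = T

theorem jrt_j1 [IsSimpleGroup G] (h2 : WA.Ab2 (⊤ : Subgroup G)) (h : WA.JRT G) (h4 : U4 G) : Spor.IsoJ1 G := by
  obtain ⟨t, E, E₀, F, _, _, ht, -, hd, h3, h5, h6, ho, hq, ⟨e⟩⟩ := h
  have hT := JR.TL.of_idp ht hd
  obtain ⟨n, hn⟩ : ∃ n, 4 * n = Fintype.card F - 1 ∨ 4 * n = Fintype.card F + 1 := by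
    obtain ⟨k, hk⟩ := ho
    exact ⟨(k + 1) / 2, by omega⟩
  obtain ⟨x, hx⟩ := H12.exists_invol_psl2 (F := F)
  obtain ⟨a, s, hp, h7, rfl⟩ := H12.centralizer_invol (H13.two_ne_zero_of_odd_card ho) hx hn
  let f := E₀.subtype.comp e.symm.toMonoidHom
  have hf : Function.Injective f := E₀.subtype_injective.comp e.symm.injective
  have ct : ∀ y, f y * t = t * f y := fun y => hT.comm (h3 (e.symm y).2)
  have iu : Iv (f (a ^ n)) := iv_of_ord ((orderOf_injective f hf _).trans hx)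
  obtain ⟨S, m1, m2⟩ : ∃ S : Sylow 2 G, t ∈ (S : Subgroup G) ∧ f (a ^ n) ∈ (S : Subgroup G) := by
    obtain ⟨S, hS⟩ := (iv_of_ord ht).el2.isPGroup.exists_le_sylow
    have m := hS (mem_zpowers t)
    obtain ⟨g, hg, h8⟩ := exists_syl (S := S) (X := C₁⟦t⟧) (fun y hy => mem_cent1.2 (h2 S le_top S.2 y hy t m))
      (mem_cent1.2 (ct _)) iu.el2
    exact ⟨_, by have := mem_smul m g; rwa [mem_cent1.1 hg, mul_inv_cancel_right] at this, h8⟩
  have ab := h2 S le_top S.2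
  have fix : ∀ y, y * a ^ n = a ^ n * y → f y • S = S := fun y hy => (h4 S _ t ⟨m1, by
    have := mem_smul m1 (f y); rwa [ct, mul_inv_cancel_right] at this⟩ _ ⟨m2, by
    have := mem_smul m2 (f y); rwa [← map_mul, hy, map_mul, mul_inv_cancel_right] at this⟩ (iv_of_ord ht) iu
    (fun e' => hT.nm (e' ▸ h3 (e.symm _).2)) fun y hy => ab y hy t m1).symm
  have fx := fix a (Commute.self_pow a n)
  have m3 := mem_of_fix (fix s (mem_cent1.1 (hp.1 ▸ subset_closure (by simp))))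
    ⟨1, by rw [pow_one, pow_two, ← map_mul, hp.2.1, map_one]⟩
  have inv : f s * f a * (f s)⁻¹ = (f a)⁻¹ := by rw [← map_inv, ← map_mul, ← map_mul, hp.2.2.1, map_inv]
  have m4 : f a * f a ∈ (S : Subgroup G) := by
    have := mul_mem (conj_mem fx m3) (inv_mem m3)
    rwa [mul_assoc, mul_assoc, ← mul_assoc (f s), ← conj_inv, inv, inv_inv] at this
  obtain ⟨k, hk⟩ := el2 m4
  have m5 := mem_of_fix fx ⟨k + 1, by rw [pow_succ', pow_mul, pow_two, hk]⟩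
  rw [ab _ m3 _ m5, mul_inv_cancel_right] at inv
  have h8 : 2 * n ∣ 2 := h7 ▸ orderOf_dvd_of_pow_eq_one (hf (by
    rw [pow_two, map_mul, map_one]; exact mul_eq_one_iff_eq_inv.2 inv))
  have h9 : Fintype.card F = 5 := by have := Nat.le_of_dvd two_pos h8; omega
  obtain ⟨R, -, -⟩ := H11.JR.of_psl2 (h2.sylow S) ht m1 hd h3 h5 h6 hq e
  obtain rfl : E = E₀ := (JR.card_of_prime (h9 ▸ Nat.prime_five) ho h3 h5 h6 e).resolve_right fun h => by
    refine ((H11.isSylIn_of_sylow_le S R.S_le).inf_of_normalized hT.le fun g hg => mem_norm_of_forall fun y hy =>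
      hT.conj_mem (mem_cent1.1 hg) hy).not_dvd_relIndex (Dvd.dvd.trans ?_
        (relIndex_dvd_of_le_left E fun y hy => R.mem_E₀ hy.1 hy.2))
    rw [← H11.card_mul_relIndex h3] at h
    exact (Nat.eq_of_mul_eq_mul_left Nat.card_pos h).symm.dvd
  exact JR.j1_simple (JR.twoCentral_of_comm (fun P a b => Subtype.ext (h2 P le_top P.2 a a.2 b b.2)) ht)
    (hT.equiv (e.trans (H13.nonempty_PSL2_five h9).some)).some

omit [Finite G] in
/-- The elements of order at most 2 of the centre of `S`. -/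
def Oz (S : Subgroup G) : Subgroup G where
  carrier := {a | (a ∈ S ∧ ∀ s ∈ S, s * a = a * s) ∧ a * a = 1}
  one_mem' := ⟨⟨one_mem _, by simp⟩, mul_one _⟩
  mul_mem' := fun {a b} ha hb => ⟨⟨mul_mem ha.1.1 hb.1.1, fun s hs => by
    rw [← mul_assoc, ha.1.2 s hs, mul_assoc, hb.1.2 s hs, mul_assoc]⟩, by
      rw [mul_assoc, ← mul_assoc b, ha.1.2 b hb.1.1, mul_assoc, hb.2, mul_one, ha.2]⟩
  inv_mem' := fun {a} ha => by rwa [inv_eq_of_mul_eq_one_left ha.2]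

theorem exists_Oz {S N : Subgroup G} (h : IsPGroup 2 S) (h1 : N ≤ S) (h2 : S ≤ N⟦N⟧) (h3 : N ≠ ⊥) :
    ∃ c ∈ N, c ∈ Oz S ∧ c ≠ 1 :=
  let ⟨c, h4, h5, h6⟩ := H11.exists_orderOf_eq_centralizer_of_normalized h (h.to_le h1) h3 h2
  ⟨c, h4, ⟨⟨h1 h4, h6⟩, (iv_of_ord h5).2⟩, (iv_of_ord h5).1⟩

omit [Finite G] in
theorem Oz_smul {S : Sylow 2 G} {a : G} (h : a ∈ Oz (S : Subgroup G)) (g : G) :
    g * a * g⁻¹ ∈ Oz ((g • S : Sylow 2 G) : Subgroup G) :=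
  ⟨⟨mem_smul h.1.1 g, fun s hs => by
    calc s * (g * a * g⁻¹) = g * (g⁻¹ * s * g * a) * g⁻¹ := by group
      _ = _ := by rw [h.1.2 _ (H11.mem_sylow_smul.1 hs)]; group⟩, by rw [conj_mul, h.2]; simp⟩

theorem es_Oz {S : Sylow 2 G} (h : ∀ T : Sylow 2 G, Oz (S : Subgroup G) ≤ T → ∀ b ∈ Oz (T : Subgroup G),
    b ∈ (S : Subgroup G) → b ∉ Oz (S : Subgroup G) → T = S) : GO.ES (Oz (S : Subgroup G)) ⊤ := by
  refine ⟨(GO.sc_iff (A := Oz S) S fun a ha => ha.1.1).2 ⟨fun a ha => ha.1.1, fun a ha g hg => by_contra fun e => ?_⟩,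
    fun a ha => ha.2⟩
  have h1 := Oz_smul ha g
  obtain ⟨k, hk, h2⟩ := (H11.isSylIn_of_sylow_le (g • S) (K := C₁⟦g * a * g⁻¹⟧) fun s hs =>
    mem_cent1.2 (h1.1.2 s hs)).exists_cj_le (S.2.to_le (H := Oz S) fun a ha => ha.1.1)
      fun b hb => mem_cent1.2 (hb.1.2 _ hg).symm
  have h3 := Oz_smul h1 k⁻¹
  rw [mem_cent1.1 (inv_mem hk), mul_inv_cancel_right] at h3
  exact e (h _ (fun b hb => H11.mem_sylow_smul.2 (by rw [inv_inv]; exact H11.cj_le_iff.1 h2 b hb)) _ h3 hg e ▸ h3)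

theorem U4.es (h : U4 G) (S : Sylow 2 G) : GO.ES (Oz (S : Subgroup G)) ⊤ := es_Oz fun T h1 b h2 h3 h4 => by
  have b1 : b ≠ 1 := fun e => h4 (e ▸ one_mem _)
  obtain ⟨c, -, h5, h6⟩ := exists_Oz S.2 le_rfl le_normalizer (ne_bot_of_mem h3 b1)
  exact h T S b ⟨h2.1.1, h3⟩ c ⟨h1 h5, h5.1.1⟩ ⟨b1, h2.2⟩ ⟨h6, h5.2⟩ (fun e => h4 (e ▸ h5)) h2.1.2

theorem syl_ne_bot (hG : ¬ Group.IsSolvable G) (S : Sylow 2 G) : (S : Subgroup G) ≠ ⊥ := fun e =>
  hG (FT.solvable_of_odd (by simpa [e] using Nat.odd_iff.2 (Nat.two_dvd_ne_zero.1 S.not_dvd_index)))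

theorem U4.gt [IsSimpleGroup G] (hG : ¬ IsMulCommutative G) (h : U4 G) : GO.GT G := by
  obtain ⟨S⟩ : Nonempty (Sylow 2 G) := inferInstance
  obtain ⟨c, -, h1, h2⟩ := exists_Oz S.2 le_rfl le_normalizer
    (syl_ne_bot (fun e => hG ⟨⟨IsSimpleGroup.comm_iff_isSolvable.2 e⟩⟩) S)
  exact GO.gold hG (h.es S) (ne_bot_of_mem h1 h2)

end Cfsg.Agent.CI
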