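/-
Groups in which every four-group lies in a unique Sylow 2-subgroup: action on a component.
-/
import Cfsg.Agent.CI.J
import Cfsg.Agent.GO.Tc
import Cfsg.Agent.GW.PG2
import Cfsg.Agent.H11.MC2
import Cfsg.Agent.H11.TwoGp

set_option autoImplicit false
set_option linter.style.haveILetI false

namespace Cfsg.Agent.CI

open Subgroup Cfsg.Agent.H10 Cfsg.Agent.H11 Cfsg.Agent.WA Cfsg.Agent.GO

variable {G : Type*} [Group G] [Finite G] {K L S T X : Subgroup G}

/-- A central involution of a Sylow 2-subgroup of an almost simple group lying in no other one. -/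
theorem delta0 [IsSimpleGroup L] (hL : ¬ IsMulCommutative L) (hn : normalizer (L : Set G) = ⊤)
    (hc : centralizer (L : Set G) = ⊥) (hS : IsSylIn 2 S ⊤) {w : G} (hw : w ∈ Oz S) (w1 : w ≠ 1)
    (hu : ∀ T, IsSylIn 2 T ⊤ → w ∈ T → T = S) :
    S ≤ L ∧ (∀ T, IsSylIn 2 T ⊤ → T = S ∨ S ⊓ T = ⊥) ∧ IsBender L ∧
      ∃ a ∈ S, a ≠ 1 ∧ a * a = 1 ∧ ∃ c ∈ L, ∃ d ∈ L, c * a * c⁻¹ ∈ S ∧ c * a * c⁻¹ ≠ a ∧
        d * a * d⁻¹ = a * (c * a * c⁻¹) := by
  have hT := hS.inf_of_normalized (N := L) le_top hn.ge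
  obtain ⟨t, t1, t2⟩ := syl_invol hL hT
  have a3 : S ≤ normalizer ((S ⊓ L : Subgroup G) : Set G) :=
    (le_inf le_normalizer (hn ▸ le_top)).trans inf_normalizer_le_normalizer_inf
  have alt : Ab2 (⊤ : Subgroup L) ∨ ∃ H : Subgroup L, IsStronglyEmbedded H := by
    obtain ⟨P, rfl⟩ := hS.exists_sylow_top
    have h1 := es_Oz (S := P) fun T h _ _ _ _ => Sylow.ext (hu _ (isSylIn_top T) (h hw))
    obtain ⟨c, c1, c2, c3⟩ := exists_Oz P.2 inf_le_left a3 fun e => ne_one_of_orderOf_two t2 (mem_bot.1 (e ▸ t1))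
    have h2 : ES (Oz (P : Subgroup G) ⊓ L) L := ⟨h1.toSC.inf le_top (hn ▸ le_top), fun a ha => ha.1.2⟩
    exact gold' hL h2.subgroupOf fun e => c3 (congrArg Subtype.val
      (mem_bot.1 (e.le (show (⟨c, c1.2⟩ : L) ∈ (Oz (P : Subgroup G) ⊓ L).subgroupOf L from ⟨c2, c1.2⟩))))
  have N := (gt_of hL alt).nice hL
  obtain ⟨V, hV⟩ := N.ex _ hT
  have a1 : V ≤ S := hV.le.trans inf_le_left
  have inn : ∀ s ∈ S, s ∈ centralizer (V : Set G) → ⁅zpowers s, S ⊓ L⁆ ≤ V → s ∈ L := fun s hs h1 h2 => by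
    obtain ⟨k, hk⟩ := hS.pg ⟨s, hs⟩
    obtain ⟨y, y1, y2⟩ := N.inn V _ hV s (hn ▸ mem_top s) ⟨k, congrArg Subtype.val hk⟩ h1 h2
    rw [hc, mem_bot, inv_mul_eq_one] at y2
    exact y2 ▸ y1.2
  have wV : w ∈ V := (hV.mem w).2 ⟨⟨hw.1.1, inn w hw.1.1 (fun v hv => hw.1.2 v (a1 hv))
    ((commutator_eq_bot_iff_le_centralizer.2 (zpowers_le.2 fun s hs => hw.1.2 s (mem_inf.1 hs).1)).le.trans
      bot_le)⟩, hw.2⟩
  have a2 : ∀ g ∈ normalizer (V : Set G), g ∈ normalizer (S : Set G) := fun g hg =>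
    cj_eq_iff.1 (hu _ (hS.cj_of_mem (by simp)) (cj_mono g a1 ((cj_eq_iff.2 hg).ge wV)))
  obtain ⟨C, c1, c2, -, c3, -⟩ := N.cyc V _ hV
  have a4 : S ≤ centralizer (V : Set G) := fun x hx v hv => by
    by_cases v1 : v = 1
    · simp [v1]
    obtain ⟨c, c4, rfl⟩ := c3 w wV w1 v hv v1
    have := hw.1.2 _ (conj_mem_of_mem_normalizer (inv_mem (a2 c (c2 c4))) hx)
    calc _ = c * (w * (c⁻¹ * x * c⁻¹⁻¹)) * c⁻¹ := by group
      _ = _ := by rw [← this]; group
  have a5 : S ≤ L := fun s hs => inn s hs (a4 hs) ((commutator_mono (zpowers_le.2 hs) le_rfl).trans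
    ((irr_of hL alt hV).comm hV.le hV.norm hS.pg inf_le_left a3 fun g hg => a2 g (hV.norm hg.2)))
  have ti : ∀ T, IsSylIn 2 T ⊤ → ∀ x ∈ S ⊓ T, orderOf x = 2 → T = S := fun T h x hx o => by
    obtain ⟨c, c4, rfl⟩ := c3 w wV w1 x ((hV.mem x).2 ⟨⟨hx.1, a5 hx.1⟩, mul_self_of_orderOf_two o⟩)
      (ne_one_of_orderOf_two o)
    rw [← cj_cj_inv c T, hu _ (h.cj_of_mem (g := c⁻¹) (by simp)) (mem_cj.2 (by simpa using hx.2)),
      cj_eq_iff.2 (a2 c (c2 c4))]
  have hT' : IsSylIn 2 S L := hS.of_le a5 le_top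
  have o := orderOf_two_of w1 hw.2
  refine ⟨a5, fun T h => or_iff_not_imp_left.2 fun e => by_contra fun e' => ?_, ?_, w, hw.1.1, w1, hw.2, ?_⟩
  · obtain ⟨x, x1, x2, -⟩ := exists_orderOf_eq_centralizer_of_normalized (hS.pg.to_inf_left (K := T))
      (hS.pg.to_inf_left (K := T)) e' le_normalizer
    exact e (ti T h x x1 x2)
  · refine BS.Bd.isBender_of_se (H := (normalizer (S : Set G)).subgroupOf L) (isStronglyEmbedded_iff.2
      ⟨fun e => ?_, ?_, fun x hx ox g hg => ?_⟩)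
    · rcases nn a5 (subgroupOf_eq_top.1 e) with e | e
      · exact w1 (mem_bot.1 (e ▸ hw.1.1))
      · haveI := isSolvable_of_isPGroup (e ▸ hS.pg : IsPGroup 2 L)
        exact hL ⟨⟨IsSimpleGroup.comm_iff_isSolvable.2 this⟩⟩
    · exact even_iff_two_dvd.2 (((Subgroup.orderOf_mk w (a5 hw.1.1)).trans o).symm.dvd.trans
        (Subgroup.orderOf_dvd_natCard _ (show (⟨w, a5 hw.1.1⟩ : L) ∈ _ from le_normalizer hw.1.1)))
    · have o1 : orderOf (x : G) = 2 := (Subgroup.orderOf_coe x).trans ox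
      have x1 := hS.mem_of_normalizes (k := 1) o1 (mem_top _) hx
      have x2 := hS.mem_of_normalizes (k := 1) ((H11.orderOf_conj (g : G) x).trans o1) (mem_top _) hg
      exact cj_eq_iff.1 (ti _ (hS.cj_of_mem (by simp)) _ ⟨x2, mem_cj.2 (by simpa [mul_assoc] using x1)⟩
        ((H11.orderOf_conj (g : G) x).trans o1))
  · classical
    obtain ⟨b, b1, b2⟩ := exists_mem_ne_of_card (V := V) {1, w}
      (lt_of_le_of_lt Finset.card_le_two (lt_of_lt_of_le (by decide) (N.four V _ hV)))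
    simp only [Finset.mem_insert, Finset.mem_singleton, not_or] at b2
    obtain ⟨c, c4, rfl⟩ := c3 w wV w1 b b1 b2.1
    obtain ⟨d, d1, d2⟩ := c3 w wV w1 _ (mul_mem wV b1) fun e => b2.2 (by
      rw [← inv_eq_of_mul_eq_one_right e, inv_eq_of_mul_eq_one_right hw.2])
    exact ⟨c, c1 c4, d, c1 d1, a1 b1, b2.2, d2⟩

theorem solv_of_cyc (hT : IsSylIn 2 T K) (h : IsCyclic T) : Group.IsSolvable K := (GW.nil2_of_cyclic hT h).solvable

theorem uk_pair (h : UK X) (hS : IsSylIn 2 S X) (hT : IsSylIn 2 T X) {x y : G} (ox : orderOf x = 2)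
    (oy : orderOf y = 2) (hne : x ≠ y) (hc : x * y = y * x) (h1 : x ∈ S ⊓ T) (h2 : y ∈ S ⊓ T) : S = T :=
  h _ (isKleinFour_closure ox oy hne hc) S T hS hT ((closure_le _).2 (Set.pair_subset h1.1 h2.1))
    ((closure_le _).2 (Set.pair_subset h1.2 h2.2))

/-- A quasisimple subgroup and a central involution. -/
structure Kz (K : Subgroup G) (z : G) : Prop where
  uk : UK (⊤ : Subgroup G)
  qs : IsQuasisimple K
  o : orderOf z = 2
  cen : ∀ g, g * z = z * g

namespace Kz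

variable {z w : G} (h : Kz K z)
include h

theorem pqs : PQS 2 K := QS.pqs h.qs (by_contra fun e =>
  QS.not_solvable h.qs (solv_of_odd (Nat.not_even_iff_odd.1 (mt Even.two_dvd e))))

theorem cn_eq : cn K = centralizer (K : Set G) :=
  le_antisymm (cen_le_cent ⟨SubnormalIn.refl K, h.qs⟩) cent_le_cn

theorem zC : z ∈ centralizer (K : Set G) := fun g _ => h.cen g

theorem zS (hS : IsSylIn 2 S (normalizer (K : Set G))) : z ∈ S :=
  hS.mem_of_commute (k := 1) h.o (centralizer_le_normalizer _ h.zC) fun s _ => h.cen s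

/-- The centralizer of `K` has a unique involution. -/
theorem eq_z (hw : w ∈ centralizer (K : Set G)) (o : orderOf w = 2) : w = z := by_contra fun e => by
  obtain ⟨T, hT⟩ := exists_isSylIn 2 K
  have := h.pqs.eq_of_coprime hT.le (h.uk.cent le_top (isKleinFour_closure o h.o e (h.cen w)) le_top
    ((closure_le _).2 (Set.pair_subset hw h.zC)) hT) (coprime_of_not_dvd hT.not_dvd_relIndex)
  exact QS.not_solvable h.qs (isSolvable_of_isPGroup (this ▸ hT.pg))

theorem fix (hS : IsSylIn 2 S (normalizer (K : Set G))) (hw : w ∈ S) (o : orderOf w = 2) (e : w ≠ z)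
    (hT : IsSylIn 2 T (normalizer (K : Set G))) (h1 : w ∈ T) : T = S :=
  uk_pair (h.uk.mono le_top) hT hS o h.o e (h.cen w) ⟨h1, hw⟩ ⟨h.zS hT, h.zS hS⟩

theorem mem (hS : IsSylIn 2 S (normalizer (K : Set G))) (hw : w ∈ S) (o : orderOf w = 2) (e : w ≠ z)
    {u : G} (hu : u ∈ normalizer (K : Set G)) (h4 : u ^ 2 ^ 2 = 1) (hc : u⁻¹ * w * u * w⁻¹ ∈ zpowers z) : u ∈ S := by
  obtain ⟨k, -, hk⟩ := (Nat.dvd_prime_pow Nat.prime_two).1 (orderOf_dvd_of_pow_eq_one h4)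
  refine hS.mem_of_normalizes hk hu (cj_eq_iff.1 (h.fix hS hw o e (hS.cj_of_mem (le_normalizer hu)) (mem_cj.2 ?_)))
  simpa using mul_mem (zpowers_le.2 (h.zS hS) hc) hw

theorem beta (hS : IsSylIn 2 S (normalizer (K : Set G))) (hw : w ∈ S) (o : orderOf w = 2) (e : w ≠ z) :
    ∃ w ∈ S, orderOf w = 2 ∧ w ≠ z ∧ ∀ s ∈ S, s * w * s⁻¹ * w⁻¹ ∈ centralizer (K : Set G) := by
  by_cases hV : ∃ V : Subgroup S, V.Normal ∧ IsKleinFour V
  · obtain ⟨V, n, hV⟩ := hV
    have h1 := isKleinFour_map_subtype hV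
    have h2 : ∀ s ∈ S, ∀ v ∈ V.map S.subtype, s * v * s⁻¹ ∈ V.map S.subtype :=
      fun s hs _ ⟨v, hv, e⟩ => ⟨_, n.conj_mem v hv ⟨s, hs⟩, by rw [← e]; rfl⟩
    obtain ⟨c, c1, c2, c3⟩ := exists_Oz hS.pg (map_subtype_le V) (fun s hs => mem_normalizer_of_forall (h2 s hs))
      fun e => by have := (isKleinFour_iff.1 h1).1; rw [e, card_bot] at this; omega
    by_cases cz : c = z
    · subst cz
      obtain ⟨b, b1, b2, b3⟩ := klein_exists_other h1 c
      refine ⟨b, map_subtype_le V b1, klein_orderOf h1 b1 b2, b3, fun s hs => ?_⟩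
      rcases (klein_mem_iff h1 c1 b1 c3 b2 b3.symm).1 (h2 s hs b b1) with e | e | e | e
      · exact absurd (conj_eq_one_iff.1 e) b2
      · exact absurd (by rw [mul_inv_eq_iff_eq_mul, ← h.cen, mul_right_inj] at e; exact e) b3
      · rw [e, mul_inv_cancel]; exact one_mem _
      · rw [e, mul_inv_cancel_right]; exact h.zC
    · exact ⟨c, c2.1.1, orderOf_two_of c3 c2.2, cz, fun s hs => by
        rw [c2.1.2 s hs, mul_inv_cancel_right, mul_inv_cancel]; exact one_mem _⟩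
  exfalso
  rcases isCyclic_or_MC_of_no_normal_klein hS.pg (fun V n k => hV ⟨V, n, k⟩) with h1 | ⟨n, e', f', X, Y, m⟩
  · exact e (GW.invol_eq_of_cyclic h1 hw (h.zS hS) o h.o)
  obtain ⟨X, Y, m⟩ := m.of_equiv (S := S) (MulEquiv.refl S)
  have hz : z = X (hh n) :=
    ((m.central_iff (h.zS hS)).1 fun t _ => h.cen t).resolve_left (ne_one_of_orderOf_two h.o)
  obtain ⟨a, rfl | rfl⟩ := (m.mem w).1 hw
  · exact e (by rw [hz, m.orderOf_X_two.1 o])
  haveI : (zpowers z).Normal := ⟨fun _ ⟨i, hi⟩ g => ⟨i, by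
    rw [← hi, (Commute.zpow_right (h.cen g) _).eq, mul_inv_cancel_right]⟩⟩
  have p4 : ∀ u : G, u ^ 2 ^ 2 = u * u * (u * u) := fun u => by simp [pow_succ, mul_assoc]
  let f := QuotientGroup.mk' (zpowers z)
  have k : ∀ x, f x = 1 ↔ x ∈ zpowers z := QuotientGroup.eq_one_iff
  have k2 : ∀ x ∈ zpowers z, x * x = 1 := fun x hx => by
    rcases m.mem_zpowers_z.1 (hz ▸ hx) with rfl | rfl
    · exact mul_one _
    · exact m.X_sq_eq_one.2 (Or.inr rfl)
  have cm : ∀ x y, Commute (f x) (f y) → x⁻¹ * y * x * y⁻¹ ∈ zpowers z := fun x y c => (k _).1 (by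
    simp only [map_mul, map_inv]; rw [mul_assoc (f x)⁻¹, ← c.eq]; simp)
  have vv : X (qq n) * X (qq n) = z := by rw [m.XX, ← two_mul, m.qq2, hz]
  have fz : f z = 1 := (k z).2 (mem_zpowers z)
  have fneg : f (X (-qq n)) = f (X (qq n)) := by
    rw [← m.X_inv, map_inv, inv_eq_iff_mul_eq_one, ← map_mul, vv, fz]
  have key : ∀ g ∈ K, Commute (f (X (qq n))) (f (g * X (qq n) * g⁻¹)) := fun g hg => by
    have v1 : g * X (qq n) * g⁻¹ ∈ normalizer (K : Set G) :=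
      mul_mem (mul_mem (le_normalizer hg) (hS.le (m.X_mem _))) (inv_mem (le_normalizer hg))
    have v2 : g * X (qq n) * g⁻¹ * (g * X (qq n) * g⁻¹) = z := by
      rw [conj_mul, vv, h.cen, mul_inv_cancel_right]
    generalize g * X (qq n) * g⁻¹ = v at v1 v2
    obtain ⟨_, ⟨i, rfl⟩, u2, u3, u4⟩ := exists_invol_commute_of_not_isConj (x := f (Y a)) (y := f v)
      (by rw [← map_mul, mul_self_of_orderOf_two o, map_one]) (by rw [← map_mul, v2, fz]) fun c => by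
        obtain ⟨c, hc⟩ := isConj_iff.1 c
        obtain ⟨c, rfl⟩ := QuotientGroup.mk'_surjective _ c
        obtain ⟨j, hj⟩ := (k (v * (c * Y a * c⁻¹)⁻¹)).1 (by
          simp only [map_mul, map_inv]; exact mul_inv_eq_one.2 hc.symm)
        have e1 : v = z ^ j * (c * Y a * c⁻¹) := eq_mul_of_mul_inv_eq hj.symm
        refine ne_one_of_orderOf_two h.o (v2.symm.trans ?_)
        rw [e1, mul_assoc, ← mul_assoc (c * Y a * c⁻¹), (Commute.zpow_right (h.cen _) j).eq, mul_assoc, conj_mul,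
          mul_self_of_orderOf_two o, mul_one, mul_inv_cancel, mul_one, k2 _ ⟨j, rfl⟩]
    simp only [← map_mul, ← map_zpow] at u2 u3 u4
    have u1 : (Y a * v) ^ i ∈ normalizer (K : Set G) := zpow_mem (mul_mem (hS.le hw) v1) i
    generalize (Y a * v) ^ i = u at u1 u2 u3 u4
    have u5 := h.mem hS hw o e u1 (by
      rw [p4, k2 _ ((k _).1 (by
        rw [map_mul, mul_self_of_orderOf_two u2]))]) (cm _ _ u3)
    have u6 : u⁻¹ ∈ normalizer ((closure {X (hh n), Y a} : Subgroup G) : Set G) :=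
      mem_normalizer_of_forall fun x hx => by
        have y1 : Y a ∈ closure {X (hh n), Y a} := subset_closure (by simp)
        have y2 : zpowers z ≤ closure {X (hh n), Y a} := zpowers_le.2 (subset_closure (by simp [hz]))
        refine cj_le_iff.1 (cj_le_iff'.2 ((closure_le _).2 (Set.pair_subset (mem_cj.2 ?_) (mem_cj.2 ?_)))) x hx
        · rw [← hz, h.cen, inv_mul_cancel_right]; exact subset_closure (by simp)
        · simpa using mul_mem (y2 (cm _ _ u3)) y1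
    obtain ⟨j, rfl | rfl⟩ := m.mem_eight.1 ((m.normalizer_four u5).1 (inv_mem_iff.1 u6))
    · rcases qq_mul m.two_le j with e1 | e1 | e1 | e1 <;> rw [e1] at u2 u4
      · exact absurd (by rw [m.X_zero, map_one]) (ne_one_of_orderOf_two u2)
      · exact absurd (by rw [← hz, fz]) (ne_one_of_orderOf_two u2)
      · exact u4
      · exact fneg ▸ u4
    · have := h.mem hS u5 (m.orderOf_Y_two.2 (by linear_combination m.orderOf_Y_two.1 o + j * m.e_qq))
        (hz ▸ m.Y_ne_X _ _) v1 (by rw [p4, v2, k2 _ (mem_zpowers z)])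
        (cm _ _ u4.symm)
      refine (mul_inv_eq_iff_eq_mul.1 ?_ : f v * f (X (qq n)) = _).symm
      rw [← map_inv, ← map_mul, ← map_mul]
      rcases m.conj_X (qq n) this with e1 | e1 <;> rw [e1]
      rw [m.e_qq, add_zero, fneg]
  have M : ⁅zpowers (X (qq n)), K⁆ ≤ (centralizer {f (X (qq n))}).comap f := commutator_le.2 fun _ ⟨i, hi⟩ g hg => by
    rw [← hi, mem_comap, mem_centralizer_singleton_iff, commutatorElement_def, mul_assoc, mul_assoc, ← mul_assoc g,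
      map_mul, map_zpow, ← zpow_neg, ← conj_zpow, map_zpow]
    exact (((Commute.refl _).zpow_left i).mul_left ((key g hg).symm.zpow_left _)).eq
  have v1 : zpowers (X (qq n)) ≤ normalizer (K : Set G) := (m.zpowers_le _).trans hS.le
  have v2 : ⁅zpowers (X (qq n)), K⁆ = ⊥ := commutator_eq_bot_of_perfect (QS.perfect h.qs)
    ((QS.normal_cases h.qs (commutator_le_right_of_le_normalizer v1)
      (normalizer_commutator_ge_right _ _)).resolve_right fun e1 => QS.not_le_centralizer h.qs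
        (e1.ge.trans (le_trans (b := zpowers z) (commutator_le.2 fun _ ⟨i, hi⟩ g hg => (k _).1 (by
          rw [map_commutatorElement, commutatorElement_eq_one_iff_commute, ← hi, map_zpow]
          exact (Commute.symm (mem_centralizer_singleton_iff.1 (M (e1.ge hg)))).zpow_left i)) (zpowers_le.2 h.zC))))
  have hT := hS.inf_of_normalized le_normalizer le_rfl
  refine QS.not_solvable h.qs (solv_of_cyc hT (Subgroup.isCyclic_of_le (H' := zpowers (X 1)) fun t ht => ?_))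
  exact (m.commute_X_iff (qq_ne m.two_le) (qq_ne_hh m.two_le) ht.1).1
    (commutator_eq_bot_iff_le_centralizer.1 v2 (mem_zpowers _) t ht.2)

/-- The action of `N(K)` on `K` modulo its centre. -/
theorem str (hS : IsSylIn 2 S (normalizer (K : Set G))) (hw : w ∈ S) (o : orderOf w = 2) (e : w ≠ z) :
    S ≤ (S ⊓ K) ⊔ centralizer (K : Set G) ∧
    (∀ T, IsSylIn 2 T (normalizer (K : Set G)) → T ≤ S ⊔ centralizer (K : Set G) ∨ S ⊓ T ≤ centralizer (K : Set G)) ∧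
    IsBender (ti K K) ∧ ∃ a ∈ S ⊓ K, ∃ b ∈ S ⊓ K, ∃ c ∈ K, ∃ d ∈ K, a ∉ centralizer (K : Set G) ∧
      a * a ∈ centralizer (K : Set G) ∧ a⁻¹ * b ∉ centralizer (K : Set G) ∧
      (c * a * c⁻¹)⁻¹ * b ∈ centralizer (K : Set G) ∧ (d * a * d⁻¹)⁻¹ * (a * b) ∈ centralizer (K : Set G) := by
  obtain ⟨w, hw, o, e, hc⟩ := h.beta hS hw o e
  haveI := ti_simple h.pqs
  have top : ti K (normalizer (K : Set G)) = ⊤ := im_self_of_surjective pr_surj
  have sy : ∀ T, IsSylIn 2 T (normalizer (K : Set G)) → IsSylIn 2 (ti K T) ⊤ := fun T hT => top ▸ syl_im hT le_rfl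
  rw [← h.cn_eq] at hc ⊢
  obtain ⟨h1, h2, h3, a, a1, a2, a3, c, c1, d, d1, b1, b2, b3⟩ := delta0 (ti_nc h.pqs) ti_top (ti_cent h.pqs) (sy S hS)
    (w := pr K ⟨w, hS.le hw⟩) ⟨⟨mem_im _ hw, fun s hs => by
      obtain ⟨s, s1, s2, rfl⟩ := mem_im_iff.1 hs
      have := (pr_eq_one (mul_mem (mul_mem (mul_mem s1 (hS.le hw)) (inv_mem s1)) (inv_mem (hS.le hw)))).2 (hc s s2)
      rwa [pr_mul (mul_mem (mul_mem s1 (hS.le hw)) (inv_mem s1)) (inv_mem (hS.le hw)),
        pr_mul (mul_mem s1 (hS.le hw)) (inv_mem s1), pr_mul s1 (hS.le hw), pr_inv s1, pr_inv (hS.le hw),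
        mul_inv_eq_one, mul_inv_eq_iff_eq_mul] at this⟩, pr_sq _ (mul_self_of_orderOf_two o)⟩
    (fun e1 => e (h.eq_z (h.cn_eq ▸ (pr_eq_one _).1 e1) o)) fun T' hT' w1 => by
      obtain ⟨T, t1, t2⟩ := exists_isSylIn_le (isPGroup_zpowers_of_orderOf (p := 2) (k := 1) o)
        (zpowers_le.2 ((mem_pre (hS.le hw)).2 w1))
      obtain ⟨U, u1, u2⟩ := exists_isSylIn_le t1.pg (t1.le.trans pre_le)
      obtain rfl := h.fix hS hw o e u1 (u2 (t2 (mem_zpowers w)))
      have t3 := syl_im (f := pr K) t1 pre_le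
      rw [im_pre_of_surjective pr_surj] at t3
      exact (hT'.eq (sy U hS).pg ((t3.eq hT'.pg t3.le le_rfl).le.trans (im_mono u2)) le_top).symm
  have n : S ⊓ K ≤ normalizer (K : Set G) := inf_le_left.trans hS.le
  have e1 : ti K S = ti K (S ⊓ K) :=
    (syl_im (hS.inf_of_normalized le_normalizer le_rfl) le_normalizer).eq (sy S hS).pg (im_mono inf_le_left) h1
  refine ⟨(ti_le_iff hS.le n).1 e1.le, fun T hT => (h2 _ (sy T hT)).imp (fun e => (ti_le_iff hT.le hS.le).1 e.le)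
    fun e => (ti_eq_bot (inf_le_left.trans hS.le)).1 (le_bot_iff.1 ((le_inf (im_mono inf_le_left)
      (im_mono inf_le_right)).trans e.le)), h3, ?_⟩
  obtain ⟨a, a4, a5, rfl⟩ := mem_im_iff.1 (e1.le a1)
  obtain ⟨b, b4, b5, b6⟩ := mem_im_iff.1 (e1.le b1)
  obtain ⟨c, c4, c5, rfl⟩ := mem_im_iff.1 c1
  obtain ⟨d, d4, d5, rfl⟩ := mem_im_iff.1 d1
  have cj : ∀ c (c4 : c ∈ normalizer (K : Set G)), pr K ⟨c * a * c⁻¹, mul_mem (mul_mem c4 a4) (inv_mem c4)⟩ =
      pr K ⟨c, c4⟩ * pr K ⟨a, a4⟩ * (pr K ⟨c, c4⟩)⁻¹ := fun c c4 => by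
    rw [pr_mul (mul_mem c4 a4) (inv_mem c4), pr_mul c4 a4, pr_inv c4]
  exact ⟨a, a5, b, b5, c, c5, d, d5, mt (pr_eq_one a4).2 a2, (pr_eq_one _).1 ((pr_mul a4 a4).trans a3),
    fun e => b2 (b6.symm.trans ((pr_eq_iff a4 b4).2 e).symm), (pr_eq_iff _ b4).1 ((cj c c4).trans b6.symm),
    (pr_eq_iff _ (mul_mem a4 b4)).1 (by rw [cj d d4, b3, pr_mul a4 b4, b6])⟩

end Kz

end Cfsg.Agent.CI
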