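/-
Groups in which every four-group lies in a unique Sylow 2-subgroup: the global structure.
-/
import Cfsg.Agent.CI.K
import Cfsg.Agent.CI.G
import Cfsg.Agent.H11.SFc
import Cfsg.Agent.S3742

set_option autoImplicit false
set_option linter.style.haveILetI false

namespace Cfsg.Agent.CI

open Subgroup Cfsg.Agent.H10 Cfsg.Agent.H11 Cfsg.Agent.WA Cfsg.Agent.GO
open scoped MatrixGroups

variable {G : Type*} [Group G] [Finite G] {K L S T X : Subgroup G} {z : G}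

/-- No four-subgroups. -/
def Nk (T : Subgroup G) : Prop := ∀ W ≤ T, ¬ IsKleinFour W

/-- Generators of a quaternion group of order 8 with involution `z`. -/
def Q8 (T : Subgroup G) (z : G) : Prop := ∃ i ∈ T, ∃ j ∈ T, i * i = z ∧ j * j = z ∧ i * j * (i * j) = z

omit [Finite G] in
theorem Nk.eq (h : Nk T) {x y : G} (hx : x ∈ T) (hy : y ∈ T) (ox : orderOf x = 2) (oy : orderOf y = 2)
    (e : x * y = y * x) : x = y :=
  by_contra fun h1 => h _ ((closure_le _).2 (Set.pair_subset hx hy)) (isKleinFour_closure ox oy h1 e)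

omit [Finite G] in
theorem Nk.sub (h : Nk T) (V : Subgroup T) : ¬ IsKleinFour V := fun k => h _ (map_subtype_le V) (isKleinFour_map_subtype k)

omit [Finite G] in
theorem nk_of (h : ∀ x ∈ T, orderOf x = 2 → x = z) : Nk T := fun W hW k => by
  obtain ⟨a, a1, b, b1, a2, b2, e⟩ := klein_exists_gens k
  exact e ((h a (hW a1) (klein_orderOf k a1 a2)).trans (h b (hW b1) (klein_orderOf k b1 b2)).symm)

theorem Nk.quat (h : Nk T) (hT : IsPGroup 2 T) (hc : ¬ IsCyclic T) :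
    ∃ n, Nonempty (T ≃* QuaternionGroup (2 ^ (n + 1))) := by
  rcases isCyclic_or_MC_of_no_normal_klein hT (fun V _ => h.sub V) with h1 | ⟨n, e, f, X, Y, m⟩
  · exact absurd h1 hc
  have k : ∀ a, f + e * a ≠ 0 := fun a ha => h.sub _ (m.isKleinFour_four ha)
  obtain rfl : f = hh n := m.hf.resolve_left fun e => k 0 (by simp [e])
  obtain rfl : e = 0 := m.he.resolve_right fun e => k 1 (by rw [e.2]; linear_combination m.hh2)
  exact ⟨n - 2, by rw [show n - 2 + 1 = n - 1 by have := m.two_le; omega]; exact H26.MC_quaternion_equiv m⟩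

theorem Nk.q8 (h : Nk T) (hT : IsPGroup 2 T) (hc : ¬ IsCyclic T) (hz : z ∈ T) (o : orderOf z = 2) :
    Q8 T z ∧ ∀ x ∈ T, (∀ t ∈ T, t * x = x * t) → x = 1 ∨ x = z := by
  obtain ⟨n, ⟨e⟩⟩ := h.quat hT hc
  obtain ⟨X, Y, m⟩ := exists_MC_of_quaternion (Nat.le_add_left 1 n) e
  obtain rfl := h.eq hz (m.X_mem _) o m.orderOf_z (m.z_comm hz)
  exact ⟨⟨_, m.X_mem (qq _), _, m.Y_mem 0, by rw [m.XX, ← two_mul, m.qq2], by simpa using m.Y_sq 0,
    by rw [m.XY, m.Y_sq]; simp⟩, fun x hx => (m.central_iff hx).1⟩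

omit [Finite G] in
theorem Q8.inv (h : Q8 T z) (o : orderOf z = 2) {a : G} (ha : a ∈ centralizer (T : Set G)) (e : a * a = z) :
    ∃ i ∈ T, orderOf (a * i) = 2 ∧ a * i ≠ z := by
  obtain ⟨i, hi, j, hj, h1, h2, h3⟩ := h
  have k : ∀ y, j * y = y * j → a * i ≠ y := fun y hy e1 => ne_one_of_orderOf_two o (by
    have : j * i = i * j := by
      rw [← inv_mul_eq_iff_eq_mul.2 e1.symm, ← mul_assoc, inv_mem ha j hj, mul_assoc, hy, mul_assoc]
    rw [← h3, mul_assoc, ← mul_assoc j, this, mul_assoc, h2, ← mul_assoc, h1, mul_self_of_orderOf_two o])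
  exact ⟨i, hi, orderOf_two_of (k 1 (by simp)) (by
    rw [mul_assoc, ← mul_assoc i, ha i hi, mul_assoc, h1, ← mul_assoc, e, mul_self_of_orderOf_two o]),
    k z (by rw [← h2, mul_assoc])⟩

/-- An elementary abelian group of order 8 forces the normalized groups of odd order to be centralized. -/
theorem cent_E8 (hU : UK (⊤ : Subgroup G)) (hS : IsSylIn 2 S ⊤) {V O : Subgroup G} (hV : IsKleinFour V) (h1 : V ≤ S)
    (hz : z ∈ S) (o : orderOf z = 2) (h2 : z ∉ V) (h3 : z ∈ centralizer (V : Set G)) [O.Normal]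
    (ho : Odd (Nat.card O)) : O ≤ centralizer (S : Set G) := by
  have n : ∀ Y : Subgroup G, Y ≤ normalizer (O : Set G) := fun _ => normalizer_eq_top O ▸ le_top
  refine GW.le_of_klein_gen hV (n _) ho fun a a1 a2 => ?_
  obtain ⟨b, b1, b2, b3⟩ := klein_exists_other hV a
  have hW := isKleinFour_closure o (klein_orderOf hV b1 b2) (fun e => h2 (e ▸ b1)) (h3 b b1).symm
  have w1 : closure {z, b} ≤ S ⊓ centralizer {a} := (closure_le _).2 (Set.pair_subset
    ⟨hz, mem_cent1.2 (h3 a a1).symm⟩ ⟨h1 b1, mem_cent1.2 (klein_comm hV b1 a1)⟩)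
  refine GW.le_of_klein_gen hW (le_normalizer_inf (n _) ((w1.trans inf_le_right).trans le_normalizer))
    (odd_of_le ho inf_le_left) fun c c1 c2 g hg => ?_
  have ac : a ≠ c := fun e => by
    rcases (mem_four_iff (mul_self_of_orderOf_two o) (klein_sq hV b1) (h3 b b1).symm).1 (e ▸ c1) with e | e | e | e
    exacts [a2 e, h2 (e ▸ a1), b3 e.symm, h2 (V.mul_mem_cancel_right b1 |>.1 (e ▸ a1))]
  have k : ∀ x ∈ S, g ∈ centralizer {x} → x ∈ cj g S ⊓ S := fun x hx e =>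
    ⟨mem_cj.2 (by rwa [mul_assoc, ← mem_cent1.1 e, inv_mul_cancel_left]), hx⟩
  have hn := cj_eq_iff.1 (uk_pair hU (hS.cj_of_mem (by simp)) hS (klein_orderOf hV a1 a2) (klein_orderOf hW c1 c2) ac
    (mem_cent1.1 (w1 c1).2).symm (k a (h1 a1) hg.1.2) (k c (w1 c1).1 hg.2))
  intro s hs
  have := (disjoint_of_isPGroup_of_coprime hS.pg (Nat.coprime_two_right.2 ho)).le (show s * (g * s⁻¹ * g⁻¹) ∈ S ⊓ O from
    ⟨mul_mem hs (conj_mem_of_mem_normalizer hn (inv_mem hs)), by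
      simpa [mul_assoc] using mul_mem (‹O.Normal›.conj_mem g hg.1.1 s) (inv_mem hg.1.1)⟩)
  rw [mem_bot, ← mul_assoc, mul_inv_eq_one, ← mul_assoc, mul_inv_eq_iff_eq_mul] at this
  exact this

omit [Finite G] in
theorem quot_equiv {H P : Type*} [Group H] [Group P] {f : G →* H} (hf : Function.Surjective f) {M : Subgroup H}
    {ψ : M →* P} (hψ : Function.Surjective ψ) {N : Subgroup G} [(N.subgroupOf (M.comap f)).Normal]
    (hN : ∀ g (hg : f g ∈ M), g ∈ N ↔ ψ ⟨f g, hg⟩ = 1) : Nonempty (M.comap f ⧸ N.subgroupOf (M.comap f) ≃* P) :=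
  ⟨(QuotientGroup.quotientMulEquivOfEq (show _ = (ψ.comp (f.subgroupComap M)).ker from
    Subgroup.ext fun x => hN x x.2)).trans (QuotientGroup.quotientKerEquivOfSurjective _
      (hψ.comp (f.subgroupComap_surjective_of_surjective M hf)))⟩

theorem uk_iff : UK (⊤ : Subgroup G) ↔ ∀ S T : Sylow 2 G, S ≠ T → Nk ((S : Subgroup G) ⊓ T) :=
  ⟨fun h S T e W hW k => e (Sylow.ext (h W k _ _ (isSylIn_top S) (isSylIn_top T) (hW.trans inf_le_left)
    (hW.trans inf_le_right))), fun h W k S T hS hT h1 h2 => by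
      obtain ⟨S, rfl⟩ := hS.exists_sylow_top
      obtain ⟨T, rfl⟩ := hT.exists_sylow_top
      exact congrArg _ (by_contra fun e => h S T e W (le_inf h1 h2) k)⟩

theorem uk_of (h : ∀ S T : Sylow 2 G, S ≠ T → PRankLE 2 1 ↥((S : Subgroup G) ⊓ (T : Subgroup G))) :
    UK (⊤ : Subgroup G) := uk_iff.2 fun S T e W hW k => by
  have k' := isKleinFour_subgroupOf k hW
  have := h S T e _ (H3.isMulCommutative_iff_mem.2 fun _ ha _ hb => klein_comm k' ha hb)
    fun a ha => (sq a).trans (klein_sq k' ha)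
  rw [(isKleinFour_iff.1 k').1] at this
  omega

theorem inj_of_odd {H : Type*} [Group H] {f : G →* H} (hk : Odd (Nat.card f.ker)) (hT : IsPGroup 2 T) {x y : G}
    (hx : x ∈ T) (hy : y ∈ T) (e : f x = f y) : x = y :=
  mul_inv_eq_one.1 (mem_bot.1 ((disjoint_of_isPGroup_of_coprime hT (Nat.coprime_two_right.2 hk)).le
    (mem_inf.2 ⟨mul_mem hx (inv_mem hy), by simp [e]⟩)))

theorem Nk.map {H : Type*} [Group H] {f : G →* H} (hk : Odd (Nat.card f.ker)) (hT : IsPGroup 2 T) (h : Nk T) :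
    Nk (T.map f) := fun W hW k => by
  obtain ⟨_, a1, _, b1, a2, b2, e⟩ := klein_exists_gens k
  obtain ⟨a, ha, rfl⟩ := hW a1
  obtain ⟨b, hb, rfl⟩ := hW b1
  have o : ∀ x ∈ T, f x ∈ W → f x ≠ 1 → orderOf x = 2 := fun x hx h1 h2 => orderOf_two_of (fun e => h2 (by simp [e]))
    (inj_of_odd hk hT (mul_mem hx hx) (one_mem _) (by rw [map_mul, map_one, klein_sq k h1]))
  exact e (congrArg f (h.eq ha hb (o a ha a1 a2) (o b hb b1 b2) (inj_of_odd hk hT (mul_mem ha hb) (mul_mem hb ha)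
    (by rw [map_mul, map_mul, klein_comm k a1 b1]))))

theorem uk_map {H : Type*} [Group H] [Finite H] {f : G →* H} (hf : Function.Surjective f)
    (hk : Odd (Nat.card f.ker)) (h : UK (⊤ : Subgroup G)) : UK (⊤ : Subgroup H) :=
  uk_iff.2 (cyclic_inter_map hf hk (fun B => IsPGroup 2 B ∧ Nk B) Nk
    (fun _ _ h1 h2 => Nk.map hk (h2.1.to_le h1) fun W hW => h2.2 W (hW.trans h1))
    fun S T e => ⟨S.2.to_inf_left, uk_iff.1 h S T e⟩)

/-- The involution of a core-free group with a nontrivial normal 2-subgroup. -/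
structure Gl (z : G) : Prop where
  uk : UK (⊤ : Subgroup G)
  core : OqOf 2 (⊤ : Subgroup G) = ⊥
  zQ : z ∈ OpOf 2 (⊤ : Subgroup G)
  o : orderOf z = 2
  nk : Nk (OpOf 2 (⊤ : Subgroup G))

theorem nQ : X ≤ normalizer ((OpOf 2 (⊤ : Subgroup G) : Subgroup G) : Set G) := le_normalizer_OpOf (by simp)

theorem Q_le (hS : IsSylIn 2 S ⊤) : OpOf 2 (⊤ : Subgroup G) ≤ S := hS.le_of_normalized OpOf_isPGroup le_top nQ

theorem nk_Q (hU : UK (⊤ : Subgroup G)) (hS : IsSylIn 2 S ⊤) (hT : IsSylIn 2 T ⊤) (e : S ≠ T) :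
    Nk (OpOf 2 (⊤ : Subgroup G)) := fun W hW k => e (hU W k S T hS hT (hW.trans (Q_le hS)) (hW.trans (Q_le hT)))

theorem exists_Gl (hU : UK (⊤ : Subgroup G)) (hO : OqOf 2 (⊤ : Subgroup G) = ⊥) (hS : IsSylIn 2 S ⊤)
    (hT : IsSylIn 2 T ⊤) (e : S ≠ T) (hc : ¬ IsCyclic ↥(S ⊓ T)) : ∃ z : G, Gl z := by
  by_cases hQ : OpOf 2 (⊤ : Subgroup G) = ⊥
  swap
  · obtain ⟨c, c1, c2, c3⟩ := exists_Oz OpOf_isPGroup le_rfl le_normalizer hQ
    exact ⟨c, hU, hO, c1, orderOf_two_of c3 c2.2, nk_Q hU hS hT e⟩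
  exfalso
  haveI : Nontrivial G := not_subsingleton_iff_nontrivial.1 fun _ => e (Subsingleton.elim _ _)
  obtain ⟨L, n, l1, l2, l3⟩ := hU.main ((FitOf_eq_OpOf hO).trans hQ)
  have k : ∀ S, IsSylIn 2 S ⊤ → IsSylIn 2 S L := fun S hS => hS.of_le (fun x hx => by
    obtain ⟨k, hk⟩ := hS.pg ⟨x, hx⟩
    exact mem_of_coprime_relIndex (H := ⊤) (normalizer_eq_top L).ge
      (by rw [relIndex_top_right]; exact Nat.coprime_two_right.2 l3) (mem_top x) (congrArg Subtype.val hk)) le_top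
  rcases (hU.mono le_top).alt l2 with h | ⟨_, h⟩
  · obtain ⟨V, h1, h2⟩ := exists_klein_of_not_isCyclic hS.pg.to_inf_left
      (ab2_of_top h _ (inf_le_left.trans (k S hS).le) hS.pg.to_inf_left) hc
    exact e (hU V h2 S T hS hT (h1.trans inf_le_left) (h1.trans inf_le_right))
  · obtain ⟨V, hV⟩ := bf_of_se h (k S hS)
    obtain ⟨g, hg, rfl⟩ := (k S hS).exists_cj_eq (k T hT)
    obtain ⟨x, hx, x1⟩ := (bot_or_exists_ne_one (S ⊓ cj g S)).resolve_left fun e => hc (e ▸ inferInstance)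
    exact e (cj_eq_iff.2 (inv_mem_iff.1 (hV.ti x hx.1 x1 g⁻¹ (inv_mem hg) (by simpa using mem_cj.1 hx.2)))).symm

namespace Gl

variable (h : Gl z)
include h

theorem eq_z {x : G} (hx : x ∈ OpOf 2 (⊤ : Subgroup G)) (o : orderOf x = 2) : x = z := by
  obtain ⟨c, c1, c2, c3⟩ := exists_Oz OpOf_isPGroup le_rfl le_normalizer fun e =>
    ne_one_of_orderOf_two o (mem_bot.1 (e ▸ hx))
  rw [h.nk.eq hx c1 o (orderOf_two_of c3 c2.2) (c2.1.2 x hx),
    h.nk.eq h.zQ c1 h.o (orderOf_two_of c3 c2.2) (c2.1.2 z h.zQ)]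

theorem cen (g : G) : g * z = z * g := mul_inv_eq_iff_eq_mul.1
  (h.eq_z (conj_mem_of_mem_normalizer (nQ (mem_top g)) h.zQ) ((H11.orderOf_conj g z).trans h.o))

theorem fit : FitOf (⊤ : Subgroup G) = OpOf 2 ⊤ := FitOf_eq_OpOf h.core

theorem kz (hK : CompOf K ⊤) : Kz K z := ⟨h.uk, hK.qs, h.o, h.cen⟩

theorem QC (hK : CompOf K ⊤) : OpOf 2 (⊤ : Subgroup G) ≤ centralizer (K : Set G) :=
  le_centralizer_iff.1 (commutator_eq_bot_iff_le_centralizer.1 (h.fit ▸ hK.commutator_FitOf))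

theorem ZQ (hK : CompOf K ⊤) : K ⊓ centralizer (K : Set G) ≤ OpOf 2 ⊤ := h.fit ▸ hK.subnormalIn.center_le_FitOf

theorem exists_comp (hG : ¬ Group.IsSolvable G) : ∃ K : Subgroup G, CompOf K ⊤ := by
  by_contra! e
  have h1 := inf_centralizer_FitOf_le (LayOf_eq_bot_iff.2 e)
  rw [h.fit, top_inf_eq] at h1
  haveI : (OpOf 2 (⊤ : Subgroup G)).Normal := normalizer_eq_top_iff.1 (top_le_iff.1 nQ)
  haveI : Group.IsSolvable (MulAut (OpOf 2 (⊤ : Subgroup G))) := by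
    rcases aut_cases OpOf_isPGroup h.nk.sub with h2 | ⟨⟨e⟩⟩
    · exact H1.isSolvable_of_isPGroup h2
    · obtain ⟨f⟩ := S3742.result
      haveI : Group.IsSolvable (Equiv.Perm (Fin 4)) := H4.burnside_pq Nat.prime_two Nat.prime_three (a := 3) (b := 1)
        (by rw [Nat.card_perm]; simp; rfl)
      exact Group.isSolvable_of_isSolvable_injective (f := ((MulAut.congr e).trans f).toMonoidHom) (MulEquiv.injective _)
  haveI := isSolvable_of_isPGroup (OpOf_isPGroup (p := 2) (H := (⊤ : Subgroup G)))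
  exact hG (Group.isSolvable_of_ker_le_range (OpOf 2 (⊤ : Subgroup G)).subtype MulAut.conjNormal (by
    rw [range_subtype]
    exact fun x hx => h1 fun y hy => (mul_inv_eq_iff_eq_mul.1 (show x * y * x⁻¹ = y from
      congrArg Subtype.val (DFunLike.congr_fun (MonoidHom.mem_ker.1 hx) (⟨y, hy⟩ : OpOf 2 (⊤ : Subgroup G))))).symm))

theorem sq (e : ¬ OpOf 2 (⊤ : Subgroup G) ≤ zpowers z) : ∃ a ∈ OpOf 2 (⊤ : Subgroup G), a * a = z := by
  obtain ⟨a, a1, a2, a3, -⟩ := exists_central_mod_in OpOf_isPGroup le_rfl (fun g _ => centralizer_le_normalizer _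
    (zpowers_le.1 (le_centralizer_iff.1 (zpowers_le.2 fun x hx => by rw [← (mem_zpowers_iff.1 hx).choose_spec]; exact
      (Commute.zpow_left (h.cen g) _).eq)))) le_normalizer e
  refine ⟨a, a1, ((mem_zpowers_invol (mul_self_of_orderOf_two h.o)).1 (pow_two a ▸ a3)).resolve_left fun e1 => a2 ?_⟩
  rw [h.eq_z a1 (orderOf_two_of (fun e => a2 (e ▸ one_mem _)) e1)]
  exact mem_zpowers z

theorem q8 (hK : CompOf K ⊤) (nk : ∀ x ∈ K, orderOf x = 2 → x = z) : Q8 K z := by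
  obtain ⟨T, hT⟩ := exists_isSylIn 2 K
  have hc := mt (solv_of_cyc hT) (QS.not_solvable hK.qs)
  obtain ⟨c, c1, c2, c3⟩ := exists_Oz hT.pg le_rfl le_normalizer fun e => hc (e ▸ inferInstance)
  obtain ⟨i, hi, j, hj, e⟩ := ((nk_of fun x hx => nk x (hT.le hx)).q8 hT.pg hc
    (nk c (hT.le c1) (orderOf_two_of c3 c2.2) ▸ c1) h.o).1
  exact ⟨i, hT.le hi, j, hT.le hj, e⟩

theorem inv (hS : IsSylIn 2 S X) {W : Subgroup G} (h1 : W ≤ X) (hW : IsKleinFour W) :
    ∃ w ∈ S, orderOf w = 2 ∧ w ≠ z := by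
  obtain ⟨b, b1, b2, b3⟩ := klein_exists_other hW z
  obtain ⟨g, -, hg⟩ := hS.exists_conj_invol_mem (klein_orderOf hW b1 b2) (h1 b1)
  exact ⟨_, hg, (H11.orderOf_conj g b).trans (klein_orderOf hW b1 b2), fun e => b3 (by
    rwa [mul_inv_eq_iff_eq_mul, ← h.cen, mul_right_inj] at e)⟩

section one
variable (hK : CompOf K ⊤) (u : ∀ L : Subgroup G, CompOf L ⊤ → L = K)
include hK u

theorem nK : normalizer (K : Set G) = ⊤ := eq_top_iff.2 fun g _ => cj_eq_iff.1 (u _ (hK.conj (by simp)))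

theorem C_norm (hS : IsSylIn 2 S ⊤) : centralizer (K : Set G) ≤ normalizer (S : Set G) := by
  have n := h.nK hK u
  by_cases hw : ∃ w ∈ K ⊔ OpOf 2 ⊤, orderOf w = 2 ∧ w ≠ z
  · obtain ⟨w, w1, w2, w3⟩ := hw
    haveI := normalizer_eq_top_iff.1 n
    obtain ⟨w, w4, w5, w6⟩ := h.inv (hS.inf_of_normalized (N := K ⊔ OpOf 2 ⊤) le_top
      (le_normalizer_sup n.ge nQ)) ((closure_le _).2 (Set.pair_subset w1 (mem_sup_right h.zQ)))
      (isKleinFour_closure w2 h.o w3 (h.cen w))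
    obtain ⟨k, hk, q, hq, rfl⟩ := mem_sup_of_normal_left.1 w4.2
    refine fun c hc => cj_eq_iff.1 ((h.kz hK).fix (n ▸ hS) w4.1 w5 w6 (n ▸ hS.cj_of_mem (by simp)) (mem_cj.2 ?_))
    rw [← mul_assoc, ← inv_mem hc k hk, mul_assoc, mul_assoc, ← mul_assoc c⁻¹]
    exact mul_mem ((S.mul_mem_cancel_right (Q_le hS hq)).1 w4.1)
      (Q_le hS (conj_mem_of_mem_normalizer' (nQ (mem_top c)) hq))
  push Not at hw
  have e : OpOf 2 (⊤ : Subgroup G) ≤ zpowers z := by_contra fun e => by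
    obtain ⟨a, a1, a2⟩ := h.sq e
    obtain ⟨i, i1, i2, i3⟩ := (h.q8 hK fun x hx => hw x (mem_sup_left hx)).inv h.o (h.QC hK a1) a2
    exact i3 (hw _ (mul_mem (mem_sup_right a1) (mem_sup_left i1)) i2)
  refine le_trans (le_FitOf_of_centralizes le_top ?_ fun L hL => u L hL ▸ le_rfl)
    (h.fit.le.trans ((Q_le hS).trans le_normalizer))
  exact h.fit ▸ le_centralizer_iff.1 (e.trans (zpowers_le.2 fun g _ => h.cen g))

theorem inf_le (hS : IsSylIn 2 S ⊤) : S ⊓ centralizer (K : Set G) ≤ OpOf 2 ⊤ :=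
  (le_OpOf inf_le_right (le_normalizer_inf (h.C_norm hK u hS) le_normalizer) hS.pg.to_inf_left).trans
    (SubnormalIn.OpOf_le (.of_normal le_top ((h.nK hK u).ge.trans (normalizer_le_normalizer_centralizer K))))

theorem one (hS : IsSylIn 2 S ⊤) (hT : IsSylIn 2 T ⊤) (e : S ≠ T) (hc : ¬ IsCyclic ↥(S ⊓ T)) {W : Subgroup G}
    (hW : IsKleinFour W) : ¬ IsCyclic (OpOf 2 (⊤ : Subgroup G)) ∧
      (∃ M : Subgroup G, M.Normal ∧ Odd M.index ∧ OpOf 2 ⊤ ≤ M ∧ ∃ ψ : M →* ti K K, Function.Surjective ψ ∧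
        IsBender (ti K K) ∧ ∀ x : M, (x : G) ∈ OpOf 2 ⊤ ↔ ψ x = 1) ∧
      ∃ x ∈ S, ∃ y ∈ S, orderOf x = 2 ∧ orderOf y = 2 ∧ x * y = y * x ∧ x ≠ y ∧ z ≠ x ∧ z ≠ y ∧ z ≠ x * y := by
  have n := h.nK hK u
  have k := h.kz hK
  haveI := normalizer_eq_top_iff.1 n
  haveI : (OpOf 2 (⊤ : Subgroup G)).Normal := normalizer_eq_top_iff.1 (top_le_iff.1 nQ)
  haveI : (centralizer (K : Set G)).Normal := inferInstance
  obtain ⟨w, w1, w2, w3⟩ := h.inv hS le_top hW
  obtain ⟨h1, h2, h3, a, a1, b, b1, c, c1, d, d1, a2, a3, a4, a5, a6⟩ := k.str (n ▸ hS) w1 w2 w3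
  have h4 : ¬ IsCyclic (OpOf 2 (⊤ : Subgroup G)) := fun h4 => hc (Subgroup.isCyclic_of_le (H' := OpOf 2 ⊤)
    ((le_inf inf_le_left ((h2 T (n ▸ hT)).resolve_left fun e1 => e (hS.eq hT.pg (hT.eq hS.pg (hS.le_of_normalizes
      hT.pg le_top (e1.trans (sup_le le_normalizer (h.C_norm hK u hS)))) le_top).le le_top).symm)).trans
        (h.inf_le hK u hS)))
  obtain ⟨⟨i, i1, j, j1, q1, q2, q3⟩, h5⟩ := h.nk.q8 OpOf_isPGroup h4 h.zQ h.o
  have h6 : ∀ x ∈ K, x ∈ centralizer (K : Set G) → x = 1 ∨ x = z := fun x x1 x2 =>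
    h5 x (h.ZQ hK ⟨x1, x2⟩) fun t ht => (h.QC hK ht x x1).symm
  have h7 : S ≤ K ⊔ OpOf 2 ⊤ := fun s hs => by
    obtain ⟨t, ht, c, hc, rfl⟩ := mem_sup_of_normal_right.1 (h1 hs)
    exact mul_mem (mem_sup_left ht.2) (mem_sup_right (h.inf_le hK u hS ⟨(S.mul_mem_cancel_left ht.1).1 hs, hc⟩))
  have zz := mul_self_of_orderOf_two h.o
  refine ⟨h4, ⟨K ⊔ OpOf 2 ⊤, inferInstance, Odd.of_dvd_nat (Nat.not_even_iff_odd.1 fun e =>
    hS.not_dvd_relIndex e.two_dvd) (by rw [relIndex_top_right]; exact index_dvd_of_le h7), le_sup_right, ?_⟩, ?_⟩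
  · have r : ti K (K ⊔ OpOf 2 ⊤) = ti K K := le_antisymm ((ti_le_iff (le_top.trans n.ge) le_normalizer).2
      (sup_le_sup_left ((h.QC hK).trans cent_le_cn) _)) (im_mono le_sup_left)
    refine ⟨((pr K).comp (inclusion (le_top.trans n.ge))).codRestrict _ fun x => r ▸ mem_im _ x.2, fun ⟨y, hy⟩ => ?_, h3,
      fun x => ⟨fun hx => Subtype.ext ((pr_eq_one _).2 (cent_le_cn (h.QC hK hx))), fun hx => ?_⟩⟩
    · obtain ⟨x, -, hx, rfl⟩ := mem_im_iff.1 hy
      exact ⟨⟨x, mem_sup_left hx⟩, rfl⟩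
    · have := k.cn_eq ▸ (pr_eq_one (K := K) (x := (x : G)) (n.ge (mem_top _))).1 (congrArg Subtype.val hx)
      obtain ⟨t, ht, q, hq, e⟩ := mem_sup_of_normal_right.1 x.2
      rw [← e] at this ⊢
      exact mul_mem (h.ZQ hK ⟨ht, (mul_mem_cancel_right (h.QC hK hq)).1 this⟩) hq
  have s : ∀ c ∈ K, ∀ b ∈ K, (c * a * c⁻¹)⁻¹ * b ∈ centralizer (K : Set G) → b * b = a * a := fun c c1 b b1 e => by
    have e1 : c * a * c⁻¹ * (c * a * c⁻¹) = a * a := by rw [conj_mul, a3 c c1, mul_inv_cancel_right]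
    rcases h6 _ (mul_mem (inv_mem (mul_mem (mul_mem c1 a1.2) (inv_mem c1))) b1) e with e | e
    · rw [← inv_mul_eq_one.1 e, e1]
    · rw [inv_mul_eq_iff_eq_mul.1 e, mul_assoc, ← mul_assoc z, ← h.cen, mul_assoc _ z, zz, mul_one, e1]
  obtain ⟨i, i1, j, j1, q1, q2, q3⟩ : Q8 (OpOf 2 ⊤) (a * a) := by
    rcases h6 _ (mul_mem a1.2 a1.2) a3 with e | e <;> rw [e]
    exacts [⟨1, one_mem _, 1, one_mem _, by simp⟩, ⟨i, i1, j, j1, q1, q2, q3⟩]
  have sq : ∀ b ∈ K, ∀ j ∈ OpOf 2 (⊤ : Subgroup G), b * b = a * a → j * j = a * a → b * j * (b * j) = 1 :=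
    fun b b1 j j1 e1 e2 => by
      rw [mul_assoc, ← mul_assoc j, ← h.QC hK j1 b b1, mul_assoc, ← mul_assoc, e1, e2]
      rcases h6 _ (mul_mem a1.2 a1.2) a3 with e | e <;> rw [e]
      exacts [mul_one _, zz]
  have nc : ∀ b, b ∉ centralizer (K : Set G) → ∀ j ∈ OpOf 2 (⊤ : Subgroup G), ∀ y ∈ centralizer (K : Set G),
      y ≠ b * j := fun b b1 j j1 y y1 e => b1 ((mul_mem_cancel_right (h.QC hK j1)).1 (e ▸ y1))
  have cj : ∀ c ∈ K, ∀ b, (c * a * c⁻¹)⁻¹ * b ∈ centralizer (K : Set G) → b ∉ centralizer (K : Set G) :=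
    fun c _ b e b1 => a2 (by
      simpa [mul_assoc] using (‹(centralizer (K : Set G)).Normal›.conj_mem _ (inv_mem_iff.1
        ((mul_mem_cancel_right b1).1 e)) c⁻¹))
  have e1 : a * i * (b * j) = a * b * (i * j) := by
    rw [mul_assoc, ← mul_assoc i, ← h.QC hK i1 b b1.2]; simp only [mul_assoc]
  have x2 := sq a a1.2 i i1 rfl q1
  have y2 := sq b b1.2 j j1 (s c c1 b b1.2 a5) q2
  refine ⟨_, mul_mem a1.1 (Q_le hS i1), _, mul_mem b1.1 (Q_le hS j1),
    orderOf_two_of (nc a a2 i i1 1 (one_mem _)).symm x2, orderOf_two_of (nc b (cj c c1 b a5) j j1 1 (one_mem _)).symm y2,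
    ?_, fun e => nc _ a4 j j1 i (h.QC hK i1) (by rw [mul_assoc, ← e, inv_mul_cancel_left]),
    nc a a2 i i1 z k.zC, nc b (cj c c1 b a5) j j1 z k.zC,
    e1 ▸ nc _ (cj d d1 _ a6) _ (mul_mem i1 j1) z k.zC⟩
  rw [eq_inv_of_mul_eq_one_left (e1 ▸ sq _ (mul_mem a1.2 b1.2) _ (mul_mem i1 j1) (s d d1 _ (mul_mem a1.2 b1.2) a6) q3 :
    a * i * (b * j) * (a * i * (b * j)) = 1), mul_inv_rev, inv_eq_of_mul_eq_one_left x2, inv_eq_of_mul_eq_one_left y2]

end one

theorem sl25 (hK : CompOf K ⊤) (nk : ∀ x ∈ K, orderOf x = 2 → x = z) {W : Subgroup G}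
    (h1 : W ≤ normalizer (K : Set G)) (hW : IsKleinFour W) : Nonempty (K ≃* SL(2, ZMod 5)) := by
  have k := h.kz hK
  have ti : ∀ P P' : Sylow 2 K, P ≠ P' → (P : Subgroup K) ⊓ P' ≤ center K := fun P P' e x hx => by
    have hT := isSylIn_map P
    have hT' := isSylIn_map P'
    obtain ⟨S, s1, s2⟩ := exists_isSylIn_le hT.pg (hT.le.trans le_normalizer)
    obtain ⟨S', s3, s4⟩ := exists_isSylIn_le hT'.pg (hT'.le.trans le_normalizer)
    obtain ⟨w, w1, w2, w3⟩ := h.inv s1 h1 hW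
    obtain ⟨a1, a2, -⟩ := k.str s1 w1 w2 w3
    rw [hT.eq s1.pg.to_inf_left (le_inf s2 hT.le) inf_le_right] at a1
    have n := sup_le le_normalizer ((centralizer_le hT.le).trans (centralizer_le_normalizer _))
    rcases a2 S' s3 with a2 | a2
    · exact absurd (Sylow.ext (map_injective K.subtype_injective (hT'.eq hT.pg (hT.le_of_normalizes hT'.pg hT'.le
        (s4.trans (a2.trans ((sup_le a1 le_sup_right).trans n)))) hT.le))) e
    · exact mem_center_iff.2 fun y => Subtype.ext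
        (a2 ⟨s2 (mem_map_of_mem _ hx.1), s4 (mem_map_of_mem _ hx.2)⟩ y y.2)
  have hC : CIG K := fun P P' e => ⟨P, fun x hx => ⟨⟨x, hx.1⟩, mem_center_iff.2 fun y =>
    Subtype.ext (mem_center_iff.1 (ti P P' e hx) y), rfl⟩⟩
  obtain ⟨P⟩ : Nonempty (Sylow 2 K) := inferInstance
  have hT := isSylIn_map P
  have nc : ¬ IsMulCommutative (P : Subgroup K) := fun c => by
    obtain ⟨V, v1, v2⟩ := exists_klein_of_not_isCyclic hT.pg (by
      rintro _ ⟨a, ha, rfl⟩ _ ⟨b, hb, rfl⟩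
      exact congrArg Subtype.val (H3.isMulCommutative_iff_mem.1 c a ha b hb))
      (mt (solv_of_cyc hT) (QS.not_solvable hK.qs))
    exact nk_of nk V (v1.trans hT.le) v2
  have q := (isQuasisimple_iff.1 hK.qs).2.2
  have q' : ∀ N : Subgroup K, N.Normal → (P : Subgroup K) ≤ N ⊔ center K → N = ⊤ := fun N n e =>
    (q N n).resolve_left fun e1 => nc (H3.isMulCommutative_iff_mem.2 fun a _ b hb =>
      mem_center_iff.1 (sup_le e1 le_rfl (e hb)) a)
  obtain ⟨P', e⟩ : ∃ P' : Sylow 2 K, P ≠ P' := by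
    by_contra! e
    haveI := normalizer_eq_top_iff.1 (eq_top_iff.2 fun g _ => fix_iff.1 (e (g • P)).symm)
    exact QS.not_solvable hK.qs (H1.isSolvable_of_isPGroup ((q' _ this le_sup_left ▸ P.2 :
      IsPGroup 2 (⊤ : Subgroup K)).of_equiv topEquiv))
  have hy : Hy K := ⟨fun S => ⟨_, hC.zs nc S⟩, fun R n o S => by
    have := le_pPrimeCore (N := R) (Nat.coprime_two_right.2 o)
    rw [(OqOf_eq_bot_iff K).1 (le_bot_iff.1 (h.core ▸ hK.subnormalIn.OqOf_le))] at this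
    exact this.trans bot_le⟩
  obtain ⟨_, _, _, _, -, -, -, -, -, -, -, a1⟩ := hy.str e
  obtain ⟨L, ⟨f⟩, a2, -⟩ := hy.lin e nc (a1 _ (hC.zs nc P) ⊥ bot_le fun x _ y _ x2 y2 _ x1 y1 => by
    have o : ∀ x : K, x * x ∈ (⊥ : Subgroup K) → x ∉ (⊥ : Subgroup K) → (x : G) = z := fun x x2 x1 =>
      nk x x.2 ((Subgroup.orderOf_coe x).trans (orderOf_two_of x1 x2))
    rwa [Subtype.ext ((o x x2 x1).trans (o y y2 y1).symm)])
  rw [q' (MM K) inferInstance ((le_Mx le_top).trans le_sup_left)] at a2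
  obtain rfl := q' L (normalizer_eq_top_iff.1 (top_le_iff.1 (a2.ge.trans (sup_le ((ti P P' e).trans
    (center_le_normalizer _)) le_normalizer)))) (le_top.trans (a2.ge.trans (sup_le ((ti P P' e).trans le_sup_right)
      le_sup_left)))
  exact ⟨topEquiv.symm.trans f⟩

theorem two (hK : CompOf K ⊤) (hL : CompOf L ⊤) (e : K ≠ L) : ∃ φ : SL(2, ZMod 5) × SL(2, ZMod 5) →* G,
    φ.range.Normal ∧ (Odd φ.range.index ∨ ∃ k, Odd k ∧ φ.range.index = 2 * k) ∧ φ.ker = zpowers (-1, -1) := by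
  have c : ∀ {K L : Subgroup G}, CompOf K ⊤ → CompOf L ⊤ → K ≠ L → K ≤ centralizer (L : Set G) := fun hK hL e =>
    commutator_eq_bot_iff_le_centralizer.1 (hK.commutator_eq_bot hL e)
  have nk : ∀ {K L : Subgroup G}, CompOf K ⊤ → CompOf L ⊤ → K ≠ L → ∀ x ∈ K, orderOf x = 2 → x = z :=
    fun hK hL e x hx => (h.kz hL).eq_z (c hK hL e hx)
  have qK := h.q8 hK (nk hK hL e)
  have qL := h.q8 hL (nk hL hK e.symm)
  have no : ∀ a ∈ centralizer (K : Set G), a ∈ centralizer (L : Set G) → a * a ≠ z := fun a a1 a2 a3 => by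
    obtain ⟨i, i1, i2, i3⟩ := qK.inv h.o a1 a3
    exact i3 ((h.kz hL).eq_z (mul_mem a2 (c hK hL e i1)) i2)
  have u : ∀ J : Subgroup G, CompOf J ⊤ → J = K ∨ J = L := fun J hJ => by
    by_contra! e1
    obtain ⟨i, i1, -, -, i2, -⟩ := h.q8 hJ (nk hJ hK e1.1)
    exact no i (c hJ hK e1.1 i1) (c hJ hL e1.2 i1) i2
  have hQ : OpOf 2 (⊤ : Subgroup G) ≤ zpowers z := by_contra fun e1 => by
    obtain ⟨a, a1, a2⟩ := h.sq e1
    exact no a (h.QC hK a1) (h.QC hL a1) a2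
  have cj : ∀ g, cj g K = K ∧ cj g L = L ∨ cj g K = L ∧ cj g L = K := fun g => by
    have := mt (cj_injective g) e
    rcases u _ (hK.conj (g := g) (by simp)) with a | a <;> rcases u _ (hL.conj (g := g) (by simp)) with b | b
    exacts [absurd (a.trans b.symm) this, .inl ⟨a, b⟩, .inr ⟨a, b⟩, absurd (a.trans b.symm) this]
  have nn : normalizer (K : Set G) = normalizer (L : Set G) := Subgroup.ext fun g => by
    rw [← cj_eq_iff, ← cj_eq_iff]
    rcases cj g with a | a <;> simp [a.1, a.2, e, e.symm]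
  obtain ⟨a, a1, -, -, a2, -⟩ := id qL
  obtain ⟨i, i1, i2, i3⟩ := qK.inv h.o (c hL hK e.symm a1) a2
  have zK : z ∈ K := by obtain ⟨a, a1, -, -, a2, -⟩ := qK; exact a2 ▸ mul_mem a1 a1
  have hW := isKleinFour_closure i2 h.o i3 (h.cen _)
  have w1 : closure {a * i, z} ≤ normalizer (K : Set G) := (closure_le _).2 (Set.pair_subset
    (mul_mem (hL.le_normalizer hK a1) (le_normalizer i1)) (le_normalizer zK))
  obtain ⟨f⟩ := h.sl25 hK (nk hK hL e) w1 hW
  obtain ⟨f'⟩ := h.sl25 hL (nk hL hK e.symm) (nn ▸ w1) hW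
  let φ := (K.subtype.comp f.symm.toMonoidHom).noncommCoprod (L.subtype.comp f'.symm.toMonoidHom)
    fun x y => (c hK hL e (f.symm x).2 _ (f'.symm y).2).symm
  have r : φ.range = K ⊔ L := by
    refine (MonoidHom.noncommCoprod_range ..).trans ?_
    rw [MonoidHom.range_comp, MonoidHom.range_comp, MonoidHom.range_eq_top.2 f.symm.surjective,
      MonoidHom.range_eq_top.2 f'.symm.surjective, ← MonoidHom.range_eq_map, ← MonoidHom.range_eq_map, range_subtype,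
      range_subtype]
  refine ⟨φ, r ▸ normalizer_eq_top_iff.1 (eq_top_iff.2 fun g _ => cj_eq_iff.1 (by
    rcases cj g with a | a <;> rw [cj_sup, a.1, a.2]; exact sup_comm _ _)), ?_, ?_⟩
  · obtain ⟨S, hS⟩ := exists_isSylIn 2 (normalizer (K : Set G))
    obtain ⟨w, w2, w3, w4⟩ := h.inv hS w1 hW
    have b1 := ((h.kz hK).str hS w2 w3 w4).1
    have b2 := ((h.kz hL).str (nn ▸ hS) w2 w3 w4).1
    have d : ∀ {K : Subgroup G} {s}, s ∈ S ⊓ K ⊔ centralizer (K : Set G) → ∃ t ∈ S ⊓ K, ∃ c ∈ centralizer (K : Set G),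
        t * c = s := fun hs => (mem_sup_iff_of_left_le_normalizer (inf_le_right.trans (le_normalizer.trans
          (normalizer_le_normalizer_centralizer _)))).1 hs
    have b3 : S ≤ K ⊔ L := fun s hs => by
      obtain ⟨t, ht, x, hx, rfl⟩ := d (b1 hs)
      obtain ⟨t', ht', y, hy, rfl⟩ := d (b2 ((S.mul_mem_cancel_left ht.1).1 hs))
      have y1 := (mul_mem_cancel_left (c hL hK e.symm ht'.2)).1 hx
      refine mul_mem (mem_sup_left ht.2) (mul_mem (mem_sup_right ht'.2) (mem_sup_left (zpowers_le.2 zK (hQ (h.fit.le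
        (zpowers_le.1 (le_FitOf_of_centralizes le_top ?_ fun J hJ => ?_)))))))
      · exact h.fit ▸ le_centralizer_iff.1 (hQ.trans (zpowers_le.2 fun g _ => h.cen g))
      · rcases u J hJ with rfl | rfl
        exacts [zpowers_le.2 y1, zpowers_le.2 hy]
    have b4 : Odd ((K ⊔ L).relIndex (normalizer (K : Set G))) := Odd.of_dvd_nat (Nat.not_even_iff_odd.1 fun e =>
      hS.not_dvd_relIndex e.two_dvd) (relIndex_dvd_of_le_left _ b3)
    have b5 : (normalizer (K : Set G)).index ∣ 2 := by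
      by_cases e1 : ∃ a, H11.cj a K = L
      · obtain ⟨a, e1⟩ := e1
        exact index_dvd_two_iff.2 ⟨a, fun b => ((cj b).imp (fun x => cj_eq_iff.1 x.1)
          fun x => cj_eq_iff.1 (by rw [cj_mul, e1, x.2])).symm⟩
      · exact index_dvd_two_iff.2 ⟨1, fun b => .inr (cj_eq_iff.1 ((cj b).resolve_right fun x => e1 ⟨b, x.1⟩).1)⟩
    rw [r, ← relIndex_mul_index (sup_le le_normalizer (hL.le_normalizer hK))]
    rcases (Nat.dvd_prime Nat.prime_two).1 b5 with e1 | e1 <;> rw [e1]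
    exacts [.inl (by rwa [mul_one]), .inr ⟨_, b4, mul_comm _ _⟩]
  · have m : ∀ {K : Subgroup G} (f : K ≃* SL(2, ZMod 5)), (∀ x ∈ K, orderOf x = 2 → x = z) → f.symm (-1) = z :=
      fun f k => k _ (f.symm (-1)).2 (by
        rw [Subgroup.orderOf_coe, MulEquiv.orderOf_eq]; exact orderOf_two_of (by decide) (by simp))
    have m1 := m f (nk hK hL e)
    have m2 := m f' (nk hL hK e.symm)
    have zz := mul_self_of_orderOf_two h.o
    refine le_antisymm ?_ (zpowers_le.2 ?_)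
    · rintro ⟨x, y⟩ hx
      refine (mem_zpowers_invol (by simp)).2 ?_
      have e1 : (f.symm x : G) * f'.symm y = 1 := hx
      refine ((mem_zpowers_invol zz).1 (hQ (h.ZQ hK (mem_inf.2 ⟨(f.symm x).2, by
        rw [eq_inv_of_mul_eq_one_left e1]; exact inv_mem (c hL hK e.symm (f'.symm y).2)⟩)))).imp (fun e2 => ?_) fun e2 => ?_
      · rw [e2, one_mul] at e1
        exact Prod.ext (f.symm.map_eq_one_iff.1 (Subtype.ext e2)) (f'.symm.map_eq_one_iff.1 (Subtype.ext e1))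
      · rw [e2, ← zz, mul_right_inj] at e1
        exact Prod.ext (f.symm.injective (Subtype.ext (e2.trans m1.symm)))
          (f'.symm.injective (Subtype.ext (e1.trans m2.symm)))
    · show (f.symm (-1) : G) * f'.symm (-1) = 1
      rw [m1, m2, zz]

end Gl

end Cfsg.Agent.CI
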